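import Cfsg.Agent.Lib.Goldschmidt.Split.Facts
import Cfsg.Agent.Lib.Goldschmidt.Phi.Main
import Cfsg.Agent.Lib.Goldschmidt.Kill

/-!
# The case of an elementary centralizer: a component is met

Otherwise every component at an element of `A` is centralized by `A`, so `A` is balanced and
`C(a) ≤ O(C a) N(A)`, which is impossible.
-/

set_option autoImplicit false
set_option linter.style.haveILetI false

namespace CfsgLib.Gold.Split

open Subgroup
open CfsgLib.Walter.Rank (CQ)

universe u

variable {G : Type u} [Group G] [Finite G] {S : Sylow 2 G} {A : Subgroup G}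

/-- Some component is met. -/
theorem false_of_no_pair (h : Facts S A) (hno : ∀ (y : G) (R V : Subgroup G), ¬ IsMetPairAt A y R V) :
    False := by
  haveI := Fact.mk Nat.prime_two
  have hun : ∀ b ∈ A, b ≠ 1 → ∀ K : Subgroup (CQ b), Cfsg.IsComponent K →
      Gold.img A b ≤ centralizer (K : Set (CQ b)) := fun b hb hb1 K hK => by
    by_contra hm
    exact hno b _ _ ⟨hb, hb1, K, hK, hm, rfl, rfl⟩
  refine h.setting.false_of_balanced h.eight (Phi.balanced_of_core_img h.setting fun b hb hb1 x hx => ?_)
    fun a ha ha1 => Phi.centralizer_le h.setting h.gold ha ha1 le_sup_left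
      (fun K hK => absurd (hun a ha ha1 K hK.1) hK.2) (inf_le_right.trans le_sup_right)
  have hO := CfsgLib.Walter.Rank.cq_core b
  have hxp : IsPGroup 2 (zpowers x) := CfsgLib.Coprime.isPGroup_zpowers (p := 2) (k := 1)
    (by rw [pow_one, _root_.sq]; exact Phi.img_sq h.setting hb hx)
  obtain ⟨hcop, -, hBO, -, -⟩ := CfsgLib.Coprime.coreCentralizer_data hxp _ rfl
  rw [CfsgLib.Coprime.centralizer_zpowers_eq] at hcop hBO
  set B := CfsgLib.Coprime.coreIn 2 (centralizer ({x} : Set (CQ b))) with hB
  have hE : B ≤ centralizer (Cfsg.layer (CQ b) : Set (CQ b)) := by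
    rw [le_centralizer_iff]
    refine sSup_le fun K hK => le_centralizer_iff.1 ?_
    have h1 := CfsgLib.Coprime.coreCentralizer_le_centralizer_of_centralized (p := 2) hO hK
      (hun b hb hb1 K hK hx)
    rwa [CfsgLib.Coprime.centralizerPPrimeCore_eq, CfsgLib.Coprime.centralizer_zpowers_eq] at h1
  have hfit := CfsgLib.Coprime.fitting_eq_pCore_of_pPrimeCore_eq_bot hO
  have hFit : B ≤ centralizer (Cfsg.generalizedFittingSubgroup (CQ b) : Set (CQ b)) := by
    rw [le_centralizer_iff, Cfsg.generalizedFittingSubgroup, hfit]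
    exact sup_le (le_centralizer_iff.1 hE) (le_centralizer_iff.1 hBO)
  have h1 : B ≤ Cfsg.pCore 2 (CQ b) := by
    rw [← hfit, ← CfsgLib.Coprime.generalizedFitting_inf_centralizer_layer]
    exact le_inf (hFit.trans CfsgLib.Coprime.centralizer_generalizedFitting_le) hE
  rw [eq_bot_iff, ← CfsgLib.Coprime.pPrime_inf_pGroup_eq_bot hcop (CfsgLib.Coprime.pCore_isPGroup 2)]
  exact le_inf le_rfl h1

end CfsgLib.Gold.Split
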