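import Cfsg.Agent.Lib.Walter.Rank.Residual

/-!
# Perfect subgroups of `E(X) O₂(X)` and of joins of components
-/

set_option autoImplicit false
set_option linter.style.haveILetI false

namespace CfsgLib.Gold.Split

open Subgroup
open scoped commutatorElement

universe u

variable {X : Type u} [Group X] [Finite X]

/-- A perfect subgroup of `E(X) O₂(X)` lies in `E(X)`. -/
theorem perfect_le_layer {J : Subgroup X} (hJ : ⁅J, J⁆ = J) (hle : J ≤ Cfsg.layer X ⊔ Cfsg.pCore 2 X) :
    J ≤ Cfsg.layer X := by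
  haveI : Fact (Nat.Prime 2) := ⟨Nat.prime_two⟩
  haveI := CfsgLib.Coprime.layer_normal (G := X)
  haveI := (CfsgLib.Coprime.pCore_isPGroup (G := X) 2).isNilpotent
  set π := QuotientGroup.mk' (Cfsg.layer X)
  haveI : Group.IsSolvable ↥((Cfsg.pCore 2 X).map π) :=
    Group.isSolvable_of_surjective (π.subgroupMap_surjective (Cfsg.pCore 2 X))
  have h1 : J.map π ≤ (Cfsg.pCore 2 X).map π := by
    refine (map_mono hle).trans ?_
    rw [Subgroup.map_sup]
    refine sup_le ?_ le_rfl
    rw [QuotientGroup.map_mk'_self]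
    exact bot_le
  have h2 := CfsgLib.Walter.Rank.eq_bot_of_perfect_le_solvable h1 (by rw [← map_commutator, hJ])
  rwa [Subgroup.map_eq_bot_iff, QuotientGroup.ker_mk'] at h2

/-- A perfect subgroup of the layer centralizing the components outside a family lies in the family's join. -/
theorem le_sSup_of_centralizes (p : Subgroup X → Prop) {J : Subgroup X} (hJ : ⁅J, J⁆ = J)
    (hJL : J ≤ Cfsg.layer X)
    (h : ∀ K : Subgroup X, Cfsg.IsComponent K → ¬ p K → J ≤ centralizer (K : Set X)) :
    J ≤ sSup {K : Subgroup X | Cfsg.IsComponent K ∧ p K} := by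
  set A := sSup {K : Subgroup X | Cfsg.IsComponent K ∧ p K}
  set B := sSup {K : Subgroup X | Cfsg.IsComponent K ∧ ¬ p K}
  have hKA : ∀ K : Subgroup X, Cfsg.IsComponent K → p K → K ≤ A := fun K hK hp =>
    le_sSup (Set.mem_ofPred_eq ▸ ⟨hK, hp⟩)
  have hKB : ∀ K : Subgroup X, Cfsg.IsComponent K → ¬ p K → K ≤ B := fun K hK hp =>
    le_sSup (Set.mem_ofPred_eq ▸ ⟨hK, hp⟩)
  have hle : Cfsg.layer X ≤ A ⊔ B := sSup_le fun K hK => by
    by_cases hp : p K
    · exact (hKA K hK hp).trans le_sup_left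
    · exact (hKB K hK hp).trans le_sup_right
  have hBA : B ≤ centralizer (A : Set X) := by
    rw [le_centralizer_iff]
    refine sSup_le fun K hK => ?_
    rw [le_centralizer_iff]
    exact sSup_le fun L hL => commutator_eq_bot_iff_le_centralizer.1
      (CfsgLib.Coprime.components_commute hL.1 hK.1 fun e => hL.2 (e ▸ hK.2))
  have hAL : A ≤ Cfsg.layer X := sSup_le fun K hK => CfsgLib.Coprime.component_le_layer hK.1
  have key : ∀ x ∈ J, ∃ a ∈ A, ∃ b : X, x = a * b ∧ ∀ l ∈ Cfsg.layer X, Commute b l := by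
    intro x hx
    obtain ⟨a, ha, b, hb, rfl⟩ := CfsgLib.Coprime.mem_sup_exists
      (hBA.trans (CfsgLib.Coprime.centralizer_le_normalizer_self A)) (hle (hJL hx))
    refine ⟨a, ha, b, rfl, fun l hl => ?_⟩
    have hbc : Cfsg.layer X ≤ centralizer ({b} : Set X) := sSup_le fun K hK k hk => by
      refine mem_centralizer_singleton_iff.2 ?_
      by_cases hp : p K
      · exact mem_centralizer_iff.1 (hBA hb) k (hKA K hK hp hk)
      · have h1 : Commute k a := mem_centralizer_iff.1 (hBA (hKB K hK hp hk)) a ha |>.symm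
        have h2 : Commute k (a * b) := mem_centralizer_iff.1 (h K hK hp hx) k hk
        have h3 := h1.inv_right.mul_right h2
        rw [inv_mul_cancel_left] at h3
        exact h3.eq
    exact (mem_centralizer_singleton_iff.1 (hbc hl)).symm
  rw [← hJ]
  refine commutator_le.2 fun x hx y hy => ?_
  obtain ⟨a, ha, b, rfl, hb⟩ := key x hx
  obtain ⟨c, hc, d, rfl, hd⟩ := key y hy
  have hbL : b ∈ Cfsg.layer X := by simpa using mul_mem (inv_mem (hAL ha)) (hJL hx)
  have hdb : Commute d b := hd b hbL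
  have hba : Commute b a := hb a (hAL ha)
  have hbc : Commute b c := hb c (hAL hc)
  have hda : Commute d a := hd a (hAL ha)
  have hdc : Commute d c := hd c (hAL hc)
  have hb' : Commute (b : X) (c * d * b⁻¹ * a⁻¹) :=
    ((hbc.mul_right hdb.symm).mul_right (Commute.refl b).inv_right).mul_right hba.inv_right
  rw [show ⁅a * b, c * d⁆ = ⁅a, c⁆ from ?_]
  · rw [commutatorElement_def]
    exact mul_mem (mul_mem (mul_mem ha hc) (inv_mem ha)) (inv_mem hc)
  have e1 : a * b * (c * d) * (a * b)⁻¹ = a * (c * d) * a⁻¹ := by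
    rw [mul_inv_rev, show a * b * (c * d) * (b⁻¹ * a⁻¹) = a * (b * (c * d)) * b⁻¹ * a⁻¹ by group,
      (hbc.mul_right hdb.symm).eq]
    group
  have e2 : a * (c * d) * a⁻¹ = a * c * a⁻¹ * d := by
    rw [show a * (c * d) * a⁻¹ = a * c * (d * a⁻¹) by group, hda.inv_right.eq]
    group
  simp only [commutatorElement_def]
  rw [e1, e2, mul_inv_rev]
  group

end CfsgLib.Gold.Split
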