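import Cfsg.Agent.Lib.Goldschmidt.Split.Balance
import Cfsg.Agent.Lib.Goldschmidt.Split.Layer

/-!
# The case of an elementary centralizer: there is no frame

With a frame the groups `resA A C(R_b)` commute pairwise and are normalized by `N(A)` and by the centralizers
of the hyperplanes of `A`, so they generate a normal subgroup, which is impossible.

In `C(d)` modulo its core the block of a met component `K` is the block containing the trace of `K` in `A`.
The image of `resA A C(W)`, `W` of index at most two in `R_b`, centralizes the other met components, since the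
centralizer in such a component of at least half of a Sylow `2`-subgroup is solvable, and the components
which are not met, since it is generated by conjugates of elements of `A`.
-/

set_option autoImplicit false
set_option linter.style.haveILetI false

namespace CfsgLib.Gold.Split

open Subgroup
open scoped commutatorElement
open CfsgLib.Walter.Rank (CQ proj pre mem_pre mem_pre_iff pre_le cq_core proj_eq_one_iff res res_le
  le_map_res_centralizer solvable_centralizer_half perfect_le_centralizer_component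
  core_conj_mem not_dvd_map_subgroupOf)

universe u

variable {G : Type u} [Group G] [Finite G] {S : Sylow 2 G} {A : Subgroup G}

theorem commutator_map_resA {X : Type u} [Group X] {H C : Subgroup G} (hC : resA A H ≤ C) (f : C →* X) :
    ⁅((resA A H).subgroupOf C).map f, ((resA A H).subgroupOf C).map f⁆ = ((resA A H).subgroupOf C).map f := by
  rw [← map_commutator]
  congr 1
  refine map_injective C.subtype_injective ?_
  rw [map_commutator, subgroupOf_map_subtype, inf_of_le_left hC, (isGenPerfect_resA A H).1]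

theorem mem_normalizer_resA {H : Subgroup G} {n : G} (hn : n ∈ normalizer (H : Set G)) :
    n ∈ normalizer (resA A H : Set G) := by
  refine mem_normalizer_fintype fun x hx => ?_
  refine resA_mono ?_ (resA_map_conj A H n (mem_map_of_mem _ hx))
  rintro _ ⟨h, hh, rfl⟩
  exact (mem_normalizer_iff.1 hn h).1 hh

namespace Frame

variable (F : Frame A)

/-- The join of the met components of `CQ d` belonging to the block `b`. -/
def blockLayer (_F : Frame A) (d : G) (b : Subgroup G × Subgroup G) : Subgroup (CQ d) :=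
  sSup {K : Subgroup (CQ d) |
    Cfsg.IsComponent K ∧ (¬ img A d ≤ centralizer (K : Set (CQ d)) ∧ pre d K ⊓ A ≤ b.2)}

theorem left_inf_right (h : Facts S A) {b : Subgroup G × Subgroup G} (hb : b ∈ F.B) : b.1 ⊓ b.2 = ⊥ := by
  obtain ⟨y, hy⟩ := F.pair b hb
  exact hy.inf_eq h

theorem left_le {b : Subgroup G × Subgroup G} (hb : b ∈ F.B) : b.1 ≤ A := by
  obtain ⟨y, hy⟩ := F.pair b hb
  exact hy.le_left

theorem disjoint_blocks (h : Facts S A) {b c : Subgroup G × Subgroup G} (hb : b ∈ F.B) (hc : c ∈ F.B)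
    (hne : b ≠ c) : b.2 ⊓ c.2 = ⊥ :=
  le_bot_iff.1 (le_trans (le_inf (inf_le_right.trans (F.cross b hb c hc hne)) inf_le_left)
    (F.left_inf_right h hb).le)

theorem exists_ne_one (h : Facts S A) {b : Subgroup G × Subgroup G} (hb : b ∈ F.B) :
    ∃ v ∈ b.2, v ≠ 1 ∧ v ∈ A := by
  obtain ⟨y, hy⟩ := F.pair b hb
  haveI : Nontrivial b.2 := Finite.one_lt_card_iff_nontrivial.1 (by have := hy.four_le h; omega)
  obtain ⟨v, hv⟩ := exists_ne (1 : b.2)
  exact ⟨v, v.2, fun e => hv (Subtype.ext e), hy.le_right v.2⟩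

/-- The block of a met component. -/
theorem exists_block {d : G} (hd : d ∈ A) (hd1 : d ≠ 1) {K : Subgroup (CQ d)} (hK : Cfsg.IsComponent K)
    (hmet : ¬ img A d ≤ centralizer (K : Set (CQ d))) :
    ∃ b ∈ F.B, pre d K ⊓ A ≤ b.2 ∧ b.1 ≤ pre d (centralizer (K : Set (CQ d))) ⊓ A :=
  F.cover d _ _ ⟨hd, hd1, K, hK, hmet, rfl, rfl⟩

theorem block_unique (h : Facts S A) {d : G} (hd : d ∈ A) (hd1 : d ≠ 1) {K : Subgroup (CQ d)}
    (hK : Cfsg.IsComponent K) (hmet : ¬ img A d ≤ centralizer (K : Set (CQ d)))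
    {b c : Subgroup G × Subgroup G} (hb : b ∈ F.B) (hc : c ∈ F.B)
    (hKb : pre d K ⊓ A ≤ b.2) (hKc : pre d K ⊓ A ≤ c.2) : b = c := by
  by_contra hne
  have h4 := IsMetPairAt.four_le (A := A) h (y := d) ⟨hd, hd1, K, hK, hmet, rfl, rfl⟩
  have h1 := card_le_of_le (le_inf hKb hKc)
  rw [F.disjoint_blocks h hb hc hne, Subgroup.card_bot] at h1
  omega

theorem blockLayer_commute (h : Facts S A) {d : G} (hd : d ∈ A) (hd1 : d ≠ 1)
    {b c : Subgroup G × Subgroup G} (hb : b ∈ F.B) (hc : c ∈ F.B) (hne : b ≠ c) :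
    F.blockLayer d b ≤ centralizer (F.blockLayer d c : Set (CQ d)) := by
  rw [le_centralizer_iff]
  refine sSup_le fun K hK => ?_
  rw [le_centralizer_iff]
  exact sSup_le fun L hL => commutator_eq_bot_iff_le_centralizer.1
    (CfsgLib.Coprime.components_commute hL.1 hK.1 fun e =>
      hne (F.block_unique h hd hd1 hK.1 hK.2.1 hb hc (e ▸ hL.2.2) hK.2.2))

/-- `R_b` centralizes the components of the block `b`. -/
theorem commute_blockLayer (h : Facts S A) {d : G} (hd : d ∈ A) (hd1 : d ≠ 1)
    {b : Subgroup G × Subgroup G} (hb : b ∈ F.B) {r : G} (hr : r ∈ b.1)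
    (hrc : r ∈ centralizer ({d} : Set G)) {x : CQ d} (hx : x ∈ F.blockLayer d b) :
    Commute x (proj d ⟨r, hrc⟩) := by
  suffices h' : F.blockLayer d b ≤ centralizer ({proj d ⟨r, hrc⟩} : Set (CQ d)) from
    mem_centralizer_singleton_iff.1 (h' hx)
  refine sSup_le fun K hK k hk => mem_centralizer_singleton_iff.2 ?_
  obtain ⟨b', hb', h1, h2⟩ := F.exists_block hd hd1 hK.1 hK.2.1
  obtain rfl := F.block_unique h hd hd1 hK.1 hK.2.1 hb hb' hK.2.2 h1
  obtain ⟨hr', hrK⟩ := mem_pre.1 (h2 hr).1
  exact mem_centralizer_iff.1 hrK k hk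

omit [Finite G] in
theorem resA_le_centralizer_of_mem {W : Subgroup G} {d : G} (hd : d ∈ W) :
    resA A (centralizer (W : Set G)) ≤ centralizer ({d} : Set G) :=
  (resA_le A _).trans (Subgroup.centralizer_le (Set.singleton_subset_iff.2 hd))

/-- The image of `resA A C(W)` lies in the block of `b` when `W` has index at most two in `R_b`. -/
theorem image_le_blockLayer (h : Facts S A) {b : Subgroup G × Subgroup G} (hb : b ∈ F.B) {W : Subgroup G}
    (hW : W ≤ b.1) (hW2 : W.relIndex b.1 ≤ 2) {d : G} (hd : d ∈ W) (hd1 : d ≠ 1) :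
    ((resA A (centralizer (W : Set G))).subgroupOf (centralizer ({d} : Set G))).map (proj d) ≤
      F.blockLayer d b := by
  haveI := Fact.mk Nat.prime_two
  have hWA : W ≤ A := hW.trans (F.left_le hb)
  have hdA := hWA hd
  set C := centralizer ({d} : Set G)
  set J := ((resA A (centralizer (W : Set G))).subgroupOf C).map (proj d)
  have hLC := resA_le_centralizer_of_mem (A := A) hd
  have hJ : ⁅J, J⁆ = J := commutator_map_resA hLC _
  have hJN : J ≤ normalClosure (img A d : Set (CQ d)) := by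
    rintro _ ⟨x, hx, rfl⟩
    have hgen := (isGenPerfect_resA A (centralizer (W : Set G))).2 (mem_subgroupOf.1 hx)
    have hle : closure ((resA A (centralizer (W : Set G)) : Set G) ∩ conjSet A) ≤
        ((normalClosure (img A d : Set (CQ d))).comap (proj d)).map C.subtype := by
      refine (closure_le _).2 fun z hz => ?_
      exact ⟨⟨z, hLC hz.1⟩, h.proj_mem_normalClosure hdA hz.2 (hLC hz.1), rfl⟩
    obtain ⟨x', hx', he⟩ := hle hgen
    rw [← show x' = x from Subtype.ext he]
    exact hx'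
  haveI := CfsgLib.Coprime.layer_normal (G := CQ d)
  haveI := CfsgLib.Coprime.pCore_normal' (G := CQ d) 2
  have hJL : J ≤ Cfsg.layer (CQ d) :=
    perfect_le_layer hJ (hJN.trans (normalClosure_le_normal (h.comp d hdA hd1).le_layer_sup))
  refine le_sSup_of_centralizes _ hJ hJL fun K hK hKb => ?_
  by_cases hmet : img A d ≤ centralizer (K : Set (CQ d))
  · exact hJN.trans ((h.comp d hdA hd1).closure_centralizes K hK hmet)
  have hm := (h.comp d hdA hd1).met K hK hmet
  obtain ⟨b', hb', h1, -⟩ := F.exists_block hdA hd1 hK hmet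
  have hne : b' ≠ b := fun e => hKb ⟨hmet, e ▸ h1⟩
  set Vk := pre d K ⊓ A with hVk
  have hVb : Vk ≤ b.1 := h1.trans (F.cross b hb b' hb' (Ne.symm hne))
  obtain ⟨R, hR⟩ := hm.sylow
  set Q₀ := ((W ⊓ Vk).subgroupOf C).map (proj d) with hQ₀
  have hQ₀K : Q₀ ≤ img A d ⊓ K := by
    rw [img_inf]
    exact map_mono (comap_mono inf_le_right)
  have hcardR : Nat.card (R : Subgroup K) = Nat.card Vk := by
    rw [← card_map_of_injective K.subtype_injective, hR, img_inf, h.card_map_proj hdA inf_le_right]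
  have hcardQ : Nat.card (Q₀.subgroupOf K) = Nat.card ↥(W ⊓ Vk) := by
    rw [Nat.card_congr (subgroupOfEquivOfLe (hQ₀K.trans inf_le_right)).toEquiv, hQ₀,
      h.card_map_proj hdA (inf_le_left.trans hWA)]
  have hhalf : Nat.card Vk ≤ 2 * Nat.card ↥(W ⊓ Vk) := by
    have hne0 : W.relIndex b.1 ≠ 0 := Subgroup.index_ne_zero_of_finite
    have hle : (W ⊓ Vk).relIndex Vk ≤ 2 := by
      rw [inf_relIndex_right]
      exact (relIndex_le_of_le_right hVb hne0).trans hW2
    have h2 : Nat.card ↥(W ⊓ Vk) * (W ⊓ Vk).relIndex Vk = Nat.card Vk := by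
      rw [← relIndex_bot_left (H := W ⊓ Vk), ← relIndex_bot_left (H := Vk)]
      exact relIndex_mul_relIndex ⊥ _ _ bot_le inf_le_right
    rw [← h2, mul_comm 2]
    exact Nat.mul_le_mul_left _ hle
  refine perfect_le_centralizer_component hK
    (solvable_centralizer_half hm.simple hm.cent hm.abTwo R (Q := Q₀.subgroupOf K) ?_
      (by rw [hcardR, hcardQ]; exact hhalf)) hJ hJL ?_
  · intro q hq
    obtain ⟨r, hr, hrq⟩ := (hR.symm ▸ hQ₀K hq : (q : CQ d) ∈ (R : Subgroup K).map K.subtype)
    exact Subtype.ext hrq ▸ hr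
  · rintro _ ⟨p, hp, rfl⟩ q hq
    obtain ⟨s, hs', hsq⟩ := (mem_subgroupOf.1 hq : (q : CQ d) ∈ Q₀)
    rw [← hsq]
    refine Commute.map ?_ (proj d)
    exact Subtype.ext (mem_centralizer_iff.1 (resA_le A _ hp) s (mem_subgroupOf.1 hs').1).symm

/-- In a subgroup of order at least eight of `A` an element in all the cores is trivial. -/
theorem eq_one_of_cores (h : Facts S A) (F : Frame A) {W : Subgroup G} (hW : W ≤ A) (h8 : 8 ≤ Nat.card W)
    {x : G} (hx : ∀ d ∈ W, d ≠ 1 → x ∈ Cfsg.centralizerPPrimeCore 2 d) : x = 1 := by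
  haveI := Fact.mk Nat.prime_two
  obtain ⟨⟨D, hD, hD8⟩, hDW⟩ :=
    CfsgLib.Coprime.BalFam.exists_sub (k := 3) (h.elementary hW) le_rfl (by simpa using h8)
  exact mem_bot.1 (delta_eq_bot h F (hD.trans hW) (by simpa using hD8) ▸
    CfsgLib.Walter.Rank.Frame.le_signalizerDelta fun d hd => hx d (hDW hd))

theorem eight_le {b : Subgroup G × Subgroup G} (hb : b ∈ F.B) {W : Subgroup G}
    (hW : W ≤ b.1) (hW2 : W.relIndex b.1 ≤ 2) : 8 ≤ Nat.card W := by
  have h16 := F.sixteen b hb
  have h1 : Nat.card W * W.relIndex b.1 = Nat.card b.1 := by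
    rw [← relIndex_bot_left (H := W), ← relIndex_bot_left (H := b.1)]
    exact relIndex_mul_relIndex ⊥ _ _ bot_le hW
  have h2 : Nat.card W * W.relIndex b.1 ≤ Nat.card W * 2 := Nat.mul_le_mul_left _ hW2
  omega

/-- For `W` of index at most two in `R_b`, `resA A C(W) = resA A C(R_b)`. -/
theorem resA_eq (h : Facts S A) {b : Subgroup G × Subgroup G} (hb : b ∈ F.B) {W : Subgroup G} (hW : W ≤ b.1)
    (hW2 : W.relIndex b.1 ≤ 2) :
    resA A (centralizer (W : Set G)) = resA A (centralizer (b.1 : Set G)) := by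
  have hWA : W ≤ A := hW.trans (F.left_le hb)
  refine le_antisymm (le_resA (fun p hp => mem_centralizer_iff.2 fun r hr => ?_) (isGenPerfect_resA A _))
    (resA_mono (Subgroup.centralizer_le hW))
  rw [← mul_inv_eq_one, mul_inv_rev, ← mul_assoc, ← commutatorElement_def]
  refine eq_one_of_cores h F hWA (F.eight_le hb hW hW2) fun d hd hd1 => ?_
  have hdA := hWA hd
  have hpc := resA_le_centralizer_of_mem (A := A) hd hp
  have hrc := h.mem_centralizer hdA (F.left_le hb hr)
  have hxc : ⁅r, p⁆ ∈ centralizer ({d} : Set G) := by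
    rw [commutatorElement_def]; exact mul_mem (mul_mem (mul_mem hrc hpc) (inv_mem hrc)) (inv_mem hpc)
  refine (proj_eq_one_iff hxc).1 ?_
  have hmem : proj d ⟨p, hpc⟩ ∈
      ((resA A (centralizer (W : Set G))).subgroupOf (centralizer ({d} : Set G))).map (proj d) :=
    mem_map_of_mem _ (mem_subgroupOf.2 hp)
  have h1 := F.commute_blockLayer h hdA hd1 hb hr hrc (F.image_le_blockLayer h hb hW hW2 hd hd1 hmem)
  rw [show (⟨⁅r, p⁆, hxc⟩ : centralizer ({d} : Set G)) = ⁅(⟨r, hrc⟩ : centralizer ({d} : Set G)), ⟨p, hpc⟩⁆ from rfl, map_commutatorElement]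
  exact commutatorElement_eq_one_iff_commute.2 h1.symm

/-- For `a ∈ R_b` the block `b` in `C(u)` centralizes the image of `O(C(a)) ∩ C(u)`. -/
theorem blockLayer_centralizes_core (h : Facts S A) {b : Subgroup G × Subgroup G} (hb : b ∈ F.B) {a u : G}
    (ha : a ∈ b.1) (huA : u ∈ A) (hu1 : u ≠ 1) :
    F.blockLayer u b ≤ centralizer ((((Cfsg.centralizerPPrimeCore 2 a).subgroupOf
      (centralizer ({u} : Set G))).map (proj u) : Subgroup (CQ u)) : Set (CQ u)) := by
  haveI := Fact.mk Nat.prime_two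
  have haA : a ∈ A := F.left_le hb ha
  have hYodd := not_dvd_map_subgroupOf (proj u) (C := centralizer ({u} : Set G)) (Phi.core_odd a)
  refine sSup_le fun K hK => le_centralizer_iff.1 (odd_le_centralizer_simple (cq_core u) hK.1
    ((h.comp u huA hu1).met K hK.1 hK.2.1).simple hYodd ?_)
  -- the block normalizes the image of the core of `C(a)`
  have hauC : a ∈ centralizer ({u} : Set G) := h.mem_centralizer huA haA
  have hpa : IsPGroup 2 (zpowers a) := S.2.to_le (zpowers_le.2 (h.le_sylow haA))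
  have hcomm : ∀ k ∈ K, ∀ (q : G) (hq : q ∈ zpowers a),
      Commute k (proj u ⟨q, (zpowers_le.2 hauC) hq⟩) := by
    intro k hk q hq
    exact F.commute_blockLayer h huA hu1 hb ((zpowers_le.2 ha) hq) ((zpowers_le.2 hauC) hq)
      ((le_sSup hK : K ≤ F.blockLayer u b) hk)
  have h1 := le_map_res_centralizer hpa (zpowers_le.2 hauC)
    (CfsgLib.Coprime.commutator_self_of_isComponent hK.1) hcomm
  refine h1.trans ?_
  rintro _ ⟨c, hc', rfl⟩
  have hca : (c : G) ∈ centralizer ({a} : Set G) :=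
    mem_centralizer_singleton_iff.2 (mem_centralizer_iff.1 (res_le _ (mem_subgroupOf.1 hc')) a (mem_zpowers a)).symm
  refine mem_normalizer_fintype ?_
  rintro _ ⟨o, ho, rfl⟩
  refine ⟨c * o * c⁻¹, mem_subgroupOf.2 ?_, by rw [map_mul, map_mul, map_inv]⟩
  exact core_conj_mem hca (mem_subgroupOf.1 ho)

/-- `resA A C(R_b)` centralizes the cores of the centralizers of the involutions of `R_b`. -/
theorem core_le_centralizer (h : Facts S A) {b : Subgroup G × Subgroup G} (hb : b ∈ F.B) {a : G}
    (ha : a ∈ b.1) :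
    Cfsg.centralizerPPrimeCore 2 a ≤ centralizer (resA A (centralizer (b.1 : Set G)) : Set G) := by
  haveI := Fact.mk Nat.prime_two
  have hbA := F.left_le hb
  have h4 : 2 ^ 2 ≤ Nat.card b.1 := le_trans (by norm_num) (F.sixteen b hb)
  refine CfsgLib.Coprime.le_of_hyperplanes (p := 2) (B := b.1) (h.elementary hbA) h4 (Phi.core_odd a)
    (hbA.trans (le_normalizer_core h (hbA ha))) ?_
  intro U hU hU2 x hx
  refine mem_centralizer_iff.2 fun l hl => ?_
  rw [← commutatorElement_eq_one_iff_mul_comm]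
  refine eq_one_of_cores h F (hU.trans hbA) (F.eight_le hb hU hU2.le) fun u hu hu1 => ?_
  have huA := hbA (hU hu)
  have hxu : x ∈ centralizer ({u} : Set G) :=
    mem_centralizer_singleton_iff.2 (mem_centralizer_iff.1 hx.2 u hu).symm
  have hlu : l ∈ centralizer ({u} : Set G) := resA_le_centralizer_of_mem (A := A) (hU hu) hl
  have hc : ⁅l, x⁆ ∈ centralizer ({u} : Set G) := by
    rw [commutatorElement_def]; exact mul_mem (mul_mem (mul_mem hlu hxu) (inv_mem hlu)) (inv_mem hxu)
  refine (proj_eq_one_iff hc).1 ?_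
  rw [show (⟨⁅l, x⁆, hc⟩ : centralizer ({u} : Set G)) = ⁅(⟨l, hlu⟩ : centralizer ({u} : Set G)), ⟨x, hxu⟩⁆
    from rfl, map_commutatorElement, commutatorElement_eq_one_iff_commute]
  have hl' : proj u ⟨l, hlu⟩ ∈
      ((resA A (centralizer (b.1 : Set G))).subgroupOf (centralizer ({u} : Set G))).map (proj u) :=
    mem_map_of_mem _ (mem_subgroupOf.2 hl)
  have hx' : proj u ⟨x, hxu⟩ ∈ ((Cfsg.centralizerPPrimeCore 2 a).subgroupOf
      (centralizer ({u} : Set G))).map (proj u) := mem_map_of_mem _ (mem_subgroupOf.2 hx.1)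
  have h2 : b.1.relIndex b.1 ≤ 2 := by rw [relIndex_self]; norm_num
  have hl'' := F.image_le_blockLayer h hb le_rfl h2 (hU hu) hu1 hl'
  exact (mem_centralizer_iff.1 (F.blockLayer_centralizes_core h hb ha huA hu1 hl'') _ hx').symm

/-- The residuals of two blocks commute. -/
theorem residuals_commute (h : Facts S A) {b c : Subgroup G × Subgroup G} (hb : b ∈ F.B) (hc : c ∈ F.B)
    (hne : b ≠ c) : resA A (centralizer (b.1 : Set G)) ≤
      centralizer (resA A (centralizer (c.1 : Set G)) : Set G) := by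
  obtain ⟨e, he, heb, hec⟩ : ∃ e ∈ F.B, e ≠ b ∧ e ≠ c := by
    obtain ⟨p, hp, q, hq, r, hr, hpq, hpr, hqr⟩ := F.exists_three
    by_cases h1 : p ≠ b ∧ p ≠ c
    · exact ⟨p, hp, h1⟩
    by_cases h2 : q ≠ b ∧ q ≠ c
    · exact ⟨q, hq, h2⟩
    refine ⟨r, hr, ?_⟩
    grind
  obtain ⟨d, hd, hd1, hdA⟩ := F.exists_ne_one h he
  have hdb : d ∈ b.1 := F.cross b hb e he (Ne.symm heb) hd
  have hdc : d ∈ c.1 := F.cross c hc e he (Ne.symm hec) hd
  set Lb := resA A (centralizer (b.1 : Set G))
  set Lc := resA A (centralizer (c.1 : Set G))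
  have hle : ⁅Lb, Lc⁆ ≤ Cfsg.centralizerPPrimeCore 2 d := by
    refine commutator_le.2 fun l hl m hm => ?_
    have hlc := resA_le_centralizer_of_mem (A := A) hdb hl
    have hmc := resA_le_centralizer_of_mem (A := A) hdc hm
    have hxc : ⁅l, m⁆ ∈ centralizer ({d} : Set G) := by
      rw [commutatorElement_def]; exact mul_mem (mul_mem (mul_mem hlc hmc) (inv_mem hlc)) (inv_mem hmc)
    refine (proj_eq_one_iff hxc).1 ?_
    rw [show (⟨⁅l, m⁆, hxc⟩ : centralizer ({d} : Set G)) = ⁅(⟨l, hlc⟩ : centralizer ({d} : Set G)), ⟨m, hmc⟩⁆ from rfl,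
      map_commutatorElement, commutatorElement_eq_one_iff_commute]
    have hl' : proj d ⟨l, hlc⟩ ∈ (Lb.subgroupOf (centralizer ({d} : Set G))).map (proj d) :=
      mem_map_of_mem _ (mem_subgroupOf.2 hl)
    have hm' : proj d ⟨m, hmc⟩ ∈ (Lc.subgroupOf (centralizer ({d} : Set G))).map (proj d) :=
      mem_map_of_mem _ (mem_subgroupOf.2 hm)
    exact (mem_centralizer_iff.1 (F.blockLayer_commute h hdA hd1 hb hc hne
      (F.image_le_blockLayer h hb le_rfl (by simp) hdb hd1 hl')) _
      (F.image_le_blockLayer h hc le_rfl (by simp) hdc hd1 hm')).symm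
  have h1 : ⁅⁅Lb, Lc⁆, Lb⁆ = ⊥ :=
    commutator_eq_bot_iff_le_centralizer.2 (hle.trans (F.core_le_centralizer h hb hdb))
  have h2 := commutator_commutator_eq_bot_of_rotate (H₁ := Lb) (H₂ := Lb) (H₃ := Lc) h1
    (by rwa [commutator_comm Lc Lb])
  rw [(isGenPerfect_resA A _).1] at h2
  exact commutator_eq_bot_iff_le_centralizer.1 h2

theorem map_resA_block {n : G} (hn : n ∈ normalizer (A : Set G)) {b : Subgroup G × Subgroup G}
    (hb : b ∈ F.B) :
    ∃ c ∈ F.B, (resA A (centralizer (b.1 : Set G))).map (MulAut.conj n).toMonoidHom ≤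
      resA A (centralizer (c.1 : Set G)) := by
  refine ⟨_, F.invariant n hn b hb, (resA_map_conj A _ n).trans (resA_mono ?_)⟩
  rintro _ ⟨x, hx, rfl⟩
  refine mem_centralizer_iff.2 ?_
  rintro _ ⟨r, hr, rfl⟩
  exact ((show Commute r x from mem_centralizer_iff.1 hx r hr).map (MulAut.conj n).toMonoidHom).eq

theorem hyperplane_normalizes_resA (h : Facts S A) {U : Subgroup G} (hU2 : U.relIndex A = 2) {c : G}
    (hc : c ∈ centralizer (U : Set G)) {b : Subgroup G × Subgroup G} (hb : b ∈ F.B) :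
    c ∈ normalizer (resA A (centralizer (b.1 : Set G)) : Set G) := by
  have hne : U.relIndex A ≠ 0 := by rw [hU2]; norm_num
  have hW2 : (U ⊓ b.1).relIndex b.1 ≤ 2 := by
    rw [inf_relIndex_right]
    exact (relIndex_le_of_le_right (F.left_le hb) hne).trans hU2.le
  have hc' : c ∈ centralizer ((U ⊓ b.1 : Subgroup G) : Set G) :=
    mem_centralizer_iff.2 fun x hx => mem_centralizer_iff.1 hc x hx.1
  have hn := mem_normalizer_resA (A := A) (H := centralizer ((U ⊓ b.1 : Subgroup G) : Set G))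
    (le_normalizer hc')
  rwa [F.resA_eq h hb inf_le_right hW2] at hn

theorem resA_block_ne_bot (h : Facts S A) {b : Subgroup G × Subgroup G} (hb : b ∈ F.B) :
    resA A (centralizer (b.1 : Set G)) ≠ ⊥ := by
  intro h0
  obtain ⟨y, hy, hy1, K, hK, hmet, -, hR⟩ := F.pair b hb
  have h1 := le_map_resA h hy hy1 hK hmet
  rw [← hR, h0, bot_subgroupOf, Subgroup.map_bot, le_bot_iff] at h1
  haveI := CfsgLib.Coprime.nontrivial_of_isQuasisimple hK.2
  exact (Subgroup.nontrivial_iff_ne_bot K).1 inferInstance h1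

end Frame

/-- There is no frame. -/
theorem false_of_frame (h : Facts S A) (F : Frame A) : False := by
  haveI := h.setting.simple
  obtain ⟨D, hD⟩ : ∃ D : Subgroup G, (∀ b ∈ F.B, resA A (centralizer (b.1 : Set G)) ≤ D) ∧
      ∀ M : Subgroup G, (∀ b ∈ F.B, resA A (centralizer (b.1 : Set G)) ≤ M) → D ≤ M :=
    ⟨sSup ((fun b : Subgroup G × Subgroup G => resA A (centralizer (b.1 : Set G))) '' F.B),
      fun b hb => le_sSup (Set.mem_image_of_mem _ hb), fun M hM => sSup_le (by
        rintro _ ⟨b, hb, rfl⟩; exact hM b hb)⟩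
  obtain ⟨hLD, hmin⟩ := hD
  have hinv : ∀ n : G, (∀ b ∈ F.B, (resA A (centralizer (b.1 : Set G))).map (MulAut.conj n).toMonoidHom ≤ D) →
      n ∈ normalizer (D : Set G) := by
    intro n hb
    refine mem_normalizer_fintype fun x hx => ?_
    have h1 : D ≤ D.comap (MulAut.conj n).toMonoidHom :=
      hmin _ fun b hb' => map_le_iff_le_comap.1 (hb b hb')
    exact h1 hx
  have hN : normalizer (A : Set G) ≤ normalizer (D : Set G) := fun n hn => hinv n fun b hb => by
    obtain ⟨c, hc, hle⟩ := F.map_resA_block hn hb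
    exact hle.trans (hLD c hc)
  have hU : ∀ U : Subgroup G, U ≤ A → U.relIndex A = 2 →
      centralizer (U : Set G) ≤ normalizer (D : Set G) := by
    intro U _ hU2 c hc
    refine hinv c fun b hb => ?_
    rintro _ ⟨x, hx, rfl⟩
    exact hLD b hb ((mem_normalizer_iff.1 (F.hyperplane_normalizes_resA h hU2 hc hb) x).1 hx)
  have htop : normalizer (D : Set G) = ⊤ := eq_top_of_local h hN hU fun x R V hRV => by
    obtain ⟨b, hb, -, hbR⟩ := F.cover x R V hRV
    exact (resA_mono (Subgroup.centralizer_le hbR)).trans ((hLD b hb).trans le_normalizer)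
  obtain ⟨a, ha, -⟩ := F.exists_three
  obtain ⟨y, hy⟩ := F.pair a ha
  have hLa := F.resA_block_ne_bot h ha
  have hDn : D.Normal := normalizer_eq_top_iff.1 htop
  have hDtop : D = ⊤ := hDn.eq_bot_or_eq_top.resolve_left fun e =>
    hLa (le_bot_iff.1 ((hLD a ha).trans e.le))
  have hLn : (resA A (centralizer (a.1 : Set G))).Normal := by
    refine normalizer_eq_top_iff.1 (top_unique (hDtop.ge.trans (hmin _ fun b hb => ?_)))
    rcases eq_or_ne b a with e | e
    · rw [e]; exact le_normalizer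
    · exact (F.residuals_commute h hb ha e).trans (CfsgLib.Coprime.centralizer_le_normalizer_self _)
  exact h.setting.centralizer_ne_top (h.order_two hy.1 hy.2.1) (top_unique
    ((hLn.eq_bot_or_eq_top.resolve_left hLa).ge.trans
      (Frame.resA_le_centralizer_of_mem (A := A) (hy.mem_left h))))

end CfsgLib.Gold.Split
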