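import Cfsg.Agent.Lib.Goldschmidt.Split.Cut
import Cfsg.Agent.Lib.Goldschmidt.Split.NoPair
import Cfsg.Agent.Lib.Goldschmidt.Split.Residual

/-!
# The case of an elementary centralizer
-/

set_option autoImplicit false

namespace CfsgLib.Gold.Split

universe u

/-- The case of an elementary centralizer, given the facts on components and pairs and the classification of
the simple groups with abelian Sylow `2`-subgroups. -/
theorem caseSplit_of (hC : CompFactsStmt.{u}) (hP : PairFactsStmt.{u}) (hW : CfsgLib.Walter.Classified.{u}) :
    CaseSplitStmt.{u} :=
  caseSplitStmt_of hC hP hW (fun _ _ _ _ _ h F => false_of_frame h F)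
    (fun _ _ _ _ _ h hno => false_of_no_pair h hno)

end CfsgLib.Gold.Split
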