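import Cfsg.Agent.Lib.Goldschmidt.Split.Facts
import Cfsg.Agent.Lib.Goldschmidt.Split
import Cfsg.Agent.Lib.Goldschmidt.Comp.Lift
import Cfsg.Agent.Lib.Goldschmidt.Phi.Model
import Cfsg.Agent.Lib.Goldschmidt.RankOne.Omega
import Cfsg.Agent.Lib.FT.NoMinSimple
import Cfsg.Agent.Lib.Walter.Classify

/-!
# The case of an elementary centralizer: the facts

`C(A)` is an extension of a group of odd order by a `2`-group, so it is solvable and no component at an
involution of `A` is centralized by `A`; the Sylow subgroups of the met components are elementary.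
-/

set_option autoImplicit false
set_option linter.style.haveILetI false

namespace CfsgLib.Gold.Split

open Subgroup
open CfsgLib.Walter.Rank (CQ proj pre)

universe u

variable {G : Type u} [Group G] [Finite G] {S : Sylow 2 G} {A : Subgroup G}

/-- `C(A)` is solvable when `C_S(A)` is elementary abelian. -/
theorem solvable_centralizer (h : Setting S A) (hU : ∀ x ∈ centA (S : Subgroup G) A, x * x = 1) :
    Group.IsSolvable ↥(centralizer (A : Set G)) := by
  classical
  haveI := Fact.mk Nat.prime_two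
  set C := centralizer (A : Set G) with hC
  set U := centA (S : Subgroup G) A
  have hsplit : A ⊓ sqGen U = ⊥ := by
    have : sqGen U = ⊥ := (closure_eq_bot_iff).2 (by rintro _ ⟨u, hu, rfl⟩; exact hU u hu)
    rw [this, inf_bot_eq]
  set M' : Subgroup C := closure {x : C | Odd (orderOf x)}
  set M := M'.map C.subtype
  have hMn : ∀ n ∈ normalizer (A : Set G), ∀ x ∈ M, n * x * n⁻¹ ∈ M := by
    intro n hn
    suffices hle : M ≤ M.comap (MulAut.conj n).toMonoidHom from fun x hx => hle hx
    rw [map_le_iff_le_comap]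
    refine (closure_le _).2 fun x hx => ?_
    refine ⟨⟨n * (x : G) * n⁻¹, Setting.centralizer_conj hn x.2⟩, subset_closure ?_, by simp⟩
    show Odd (orderOf _)
    rw [← Subgroup.orderOf_coe]
    show Odd (orderOf (n * (x : G) * n⁻¹))
    rw [show n * (x : G) * n⁻¹ = MulAut.conj n (x : G) from rfl, MulEquiv.orderOf_eq, Subgroup.orderOf_coe]
    exact hx
  have hD : (S : Subgroup G) ⊓ M = ⊥ := by
    refine h.eq_bot_of_closed (h.closed_of_normalizer inf_le_left fun n hn x hx hxS => ⟨hxS, hMn n hn x hx.2⟩)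
      (fun d hd a ha => (mem_centralizer_iff.1 (map_subtype_le _ hd.2) a ha).symm)
      (le_bot_iff.1 ((le_inf (inf_le_left.trans inf_le_right) inf_le_right).trans (h.oddPart_inf hsplit).le))
  haveI hM'n : M'.Normal := ⟨fun x hx g => by
    suffices hle : M' ≤ M'.comap (MulAut.conj g).toMonoidHom from hle hx
    refine (closure_le _).2 fun y hy => subset_closure ?_
    show Odd (orderOf (MulAut.conj g y))
    rw [MulEquiv.orderOf_eq]
    exact hy⟩
  haveI hsolv : Group.IsSolvable M' := by
    refine CfsgLib.FT.isSolvable_of_odd M' ?_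
    rw [← Nat.not_even_iff_odd, even_iff_two_dvd]
    intro h2
    obtain ⟨x, hx⟩ := exists_prime_orderOf_dvd_card' 2 h2
    obtain ⟨Q, hQ⟩ := h.exists_centA_sylow
    obtain ⟨m, hm⟩ := CfsgLib.Invol.exists_conj_le_sylow
      ((CfsgLib.Coprime.isPGroup_zpowers (p := 2) (k := 1) (by
        rw [pow_one]; exact congrArg Subtype.val (orderOf_dvd_iff_pow_eq_one.1 hx.dvd)) : IsPGroup 2 (zpowers (x : C)))) Q
    have h1 := hm (x : C) (mem_zpowers _)
    have h2' := hM'n.conj_mem _ x.2 m
    have h3 : ((m * (x : C) * m⁻¹ : C) : G) ∈ (S : Subgroup G) ⊓ M :=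
      ⟨(mem_subgroupOf.1 (hQ.le h1)).1, mem_map_of_mem C.subtype h2'⟩
    rw [hD, mem_bot] at h3
    have h4 : (x : C) = 1 := by
      have h5 : m * (x : C) * m⁻¹ = 1 := Subtype.ext h3
      rwa [conj_eq_one_iff] at h5
    rw [show x = 1 from Subtype.ext h4, orderOf_one] at hx
    norm_num at hx
  haveI : Group.IsSolvable (C ⧸ M') := by
    have hp : IsPGroup 2 (C ⧸ M') := by
      intro q
      obtain ⟨x, rfl⟩ := QuotientGroup.mk_surjective q
      obtain ⟨k, m, hm, hx⟩ := Nat.exists_eq_two_pow_mul_odd (orderOf_pos x).ne'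
      refine ⟨k, ?_⟩
      rw [← QuotientGroup.mk_pow, QuotientGroup.eq_one_iff]
      refine subset_closure ?_
      show Odd (orderOf (x ^ 2 ^ k))
      rw [orderOf_pow_of_dvd (pow_ne_zero k two_ne_zero) (hx ▸ dvd_mul_right _ _), hx,
        Nat.mul_div_cancel_left _ (pow_pos two_pos k)]
      exact hm
    haveI := hp.isNilpotent
    infer_instance
  exact Group.isSolvable_of_ker_le_range M'.subtype (QuotientGroup.mk' M') (by simp)

/-- No component at an involution of `A` is centralized by `A`. -/
theorem not_le_centralizer (h : Setting S A) (hU : ∀ x ∈ centA (S : Subgroup G) A, x * x = 1) {y : G}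
    (hy : y ∈ A) {K : Subgroup (CQ y)} (hK : Cfsg.IsComponent K) :
    ¬ Gold.img A y ≤ centralizer (K : Set (CQ y)) := by
  intro hle
  haveI := solvable_centralizer h hU
  have hAC : centralizer (A : Set G) ≤ centralizer ({y} : Set G) := fun c hc =>
    mem_centralizer_singleton_iff.2 (mem_centralizer_iff.1 hc y hy).symm
  let f : ↥(centralizer (A : Set G)) →* CQ y := (proj y).comp (inclusion hAC)
  haveI : Group.IsSolvable f.range := Group.isSolvable_of_surjective f.rangeRestrict_surjective
  refine CfsgLib.Coprime.not_isSolvable_of_isComponent hK ?_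
  have hKf : K ≤ f.range := by
    intro k hk
    have hkc : k ∈ centralizer (Gold.img A y : Set (CQ y)) := le_centralizer_iff.1 hle hk
    obtain ⟨g, hgN, rfl⟩ := h.exists_lift hy (centralizer_le_normalizer _ hkc)
    refine ⟨⟨g, mem_centralizer_iff.2 fun a ha => ?_⟩, rfl⟩
    have hga : (g : G) * a * (g : G)⁻¹ ∈ A := (mem_normalizer_iff.1 hgN a).1 ha
    have e : proj y ⟨(g : G) * a * (g : G)⁻¹, h.mem_centralizer hy hga⟩ =
        proj y ⟨a, h.mem_centralizer hy ha⟩ := by
      rw [show (⟨(g : G) * a * (g : G)⁻¹, h.mem_centralizer hy hga⟩ : centralizer ({y} : Set G)) =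
        g * ⟨a, h.mem_centralizer hy ha⟩ * g⁻¹ from rfl, map_mul, map_mul, map_inv,
        ← mem_centralizer_iff.1 hkc _ (h.proj_mem_img hy ha), mul_inv_cancel_right]
    have := h.proj_inj hy hga ha e
    rw [mul_inv_eq_iff_eq_mul] at this
    exact this.symm
  exact Group.isSolvable_of_isSolvable_injective (Subgroup.inclusion_injective hKf)

/-- The facts used in the case of an elementary centralizer. -/
theorem facts_of (h : Setting S A) (h8 : 8 ≤ Nat.card A) (hU : ∀ x ∈ centA (S : Subgroup G) A, x * x = 1)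
    (hC : Gold.CompFacts A) (hW : CfsgLib.Walter.Classified.{u}) : Facts S A := by
  haveI := Fact.mk Nat.prime_two
  refine ⟨h, h8, hC, fun y hy hy1 => ⟨fun K hK hm => ?_,
    fun K hK hm => absurd hm (not_le_centralizer h hU hy hK), ?_⟩⟩
  · have ho := h.orderOf_eq hy hy1
    have hmet : IsMet A y K := ⟨hK, hm⟩
    obtain ⟨hs, hn, hform⟩ := hC.form y hy ho K hmet
    obtain ⟨T, hT⟩ := hC.omega y hy ho K hmet
    have hcentral := (RankOne.omega_facts hs hform T).1
    have hTA : (T : Subgroup K).map K.subtype ≤ centralizer (Gold.img A y : Set (CQ y)) := by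
      rintro _ ⟨t, ht, rfl⟩
      refine mem_centralizer_iff.2 fun b hb => ?_
      obtain ⟨v, hv, hvc⟩ := hC.split y hy ho K hK b hb
      obtain ⟨hvT, hv2⟩ := (hT ⟨v, hv.2⟩).1 hv.1
      have h1 : Commute v (t : CQ y) := congrArg Subtype.val (hcentral _ hvT hv2 t ht).eq
      have h2 : Commute (b * v⁻¹) (t : CQ y) := (mem_centralizer_iff.1 hvc t t.2).symm
      have := h2.mul_left h1
      rwa [inv_mul_cancel_right] at this
    obtain ⟨m, -, hm'⟩ := Phi.exists_conj_into_bar h hy (T.2.map K.subtype) hTA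
    have hsq : ∀ t ∈ (T : Subgroup K), t * t = 1 := by
      intro t ht
      obtain ⟨u, hu⟩ := hm' _ (mem_map_of_mem K.subtype ht)
      have h1 : Phi.bar S hy u * Phi.bar S hy u = 1 := by
        rw [← map_mul, ← map_one (Phi.bar S hy)]
        exact congrArg _ (Subtype.ext (hU u u.2))
      rw [hu, show m * (K.subtype t) * m⁻¹ * (m * (K.subtype t) * m⁻¹) = m * (K.subtype t * K.subtype t) * m⁻¹ by
        group, conj_eq_one_iff, ← map_mul] at h1
      exact (map_eq_one_iff K.subtype K.subtype_injective).1 h1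
    have hab : CfsgLib.Walter.AbTwo K := fun P p q => by
      let e := Sylow.equiv P T
      exact e.injective (by
        rw [map_mul, map_mul]
        exact Subtype.ext (hcentral _ (e p).2 (hsq _ (e p).2) _ (e q).2).eq)
    exact ⟨hs, hn, hW K hs hn hab, hab,
      ⟨T, le_antisymm (fun x hx => by
          obtain ⟨t, ht, rfl⟩ := hx
          exact ⟨(hT t).2 ⟨ht, hsq t ht⟩, t.2⟩)
        fun x hx => ⟨⟨x, hx.2⟩, ((hT ⟨x, hx.2⟩).1 hx.1).1, rfl⟩⟩,
      hC.split y hy ho K hK⟩
  · exact (hC.le_sup y hy (h.orderOf_eq hy hy1)).trans (sup_le_sup_right (sSup_le_sSup fun K hK => hK.1) _)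

end CfsgLib.Gold.Split
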