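import Cfsg.Agent.Lib.Goldschmidt.Split.Criterion
import Cfsg.Agent.Lib.Walter.Rank.Balance
import Cfsg.Agent.Lib.Coprime.LBalance.WeakBalance

/-!
# The case of an elementary centralizer: balance

For `D ≤ A` of order eight and `b ∈ A#` we have `Δ(D) ∩ C(b) ≤ O(C b)`: in `C(b)` modulo its core a met
component has abelian Sylow `2`-subgroups inside the image of `A`, and the odd automorphism induced by `Δ`
is trivial. With a frame the odd subgroup generated by all `Δ(D)` is normal, so it is trivial.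
-/

set_option autoImplicit false
set_option linter.style.haveILetI false

namespace CfsgLib.Gold.Split

open Subgroup
open CfsgLib.Walter.Rank (CQ proj cq_core sylow_elementary core_centralizer_eq_bot aut_eq_one
  centralizer_le_sylow comm_of_mem deltaClosure map_delta mem_normalizer_of_map_le)

universe u

section Quot

variable {X : Type u} [Group X] [Finite X]

theorem delta_le_centralizer_component (hO : Cfsg.pPrimeCore 2 X = ⊥) {B : Subgroup X} {A : Subgroup X}
    (hAB : A ≤ B) (hA : Cfsg.IsElementaryAbelian 2 A) (hcard : Nat.card A = 8) {K : Subgroup X}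
    (hK : Cfsg.IsComponent K) (hmet : ¬ B ≤ centralizer (K : Set X) → Met B K) :
    Cfsg.signalizerDelta 2 A ≤ centralizer (K : Set X) := by
  classical
  haveI := Fact.mk Nat.prime_two
  have hD : ∀ d ∈ A, d ≠ 1 → Cfsg.signalizerDelta 2 A ≤ Cfsg.centralizerPPrimeCore 2 d :=
    fun d hd hd1 => iInf_le (fun a : {a : X // a ∈ A ∧ a ≠ 1} =>
      Cfsg.centralizerPPrimeCore 2 (a : X)) ⟨d, hd, hd1⟩
  by_cases hker : ∃ d ∈ A, d ≠ 1 ∧ d ∈ centralizer (K : Set X)
  · obtain ⟨d, hd, hd1, hdK⟩ := hker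
    exact (hD d hd hd1).trans
      (CfsgLib.Coprime.coreCentralizer_le_centralizer_of_centralized hO hK hdK)
  have hm : Met B K := hmet fun hle => hker (by
    haveI : Nontrivial A := Finite.one_lt_card_iff_nontrivial.1 (by omega)
    obtain ⟨⟨d, hd⟩, hd1⟩ := exists_ne (1 : A)
    exact ⟨d, hd, fun e => hd1 (Subtype.ext e), hle (hAB hd)⟩)
  have hsimple := hm.simple
  have hc := hm.cent
  have habK := hm.abTwo
  obtain ⟨R, hR⟩ := hm.sylow
  have hsplit : ∀ d : A, ∃ r : (R : Subgroup K), (d : X) * ((r : K) : X)⁻¹ ∈ centralizer (K : Set X) := by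
    intro d
    obtain ⟨v, hv, hvc⟩ := hm.split d (hAB d.2)
    rw [← hR] at hv
    obtain ⟨r, hr, rfl⟩ := hv
    exact ⟨⟨r, hr⟩, hvc⟩
  choose v hv using hsplit
  have hvinj : Function.Injective v := by
    intro d d' e
    by_contra hne
    refine hker ⟨(d : X) * (d' : X)⁻¹, mul_mem d.2 (inv_mem d'.2),
      fun h => hne (Subtype.ext (mul_inv_eq_one.1 h)), ?_⟩
    have h1 := mul_mem (hv d) (inv_mem (e ▸ hv d'))
    rwa [mul_inv_rev, inv_inv, mul_assoc, inv_mul_cancel_left] at h1
  have h8 : 8 ≤ Nat.card (R : Subgroup K) := hcard ▸ Nat.card_le_card_of_injective v hvinj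
  intro x hx
  have hA1 : ∃ d : A, d ≠ 1 := by
    haveI : Nontrivial A := Finite.one_lt_card_iff_nontrivial.1 (by omega)
    exact exists_ne 1
  obtain ⟨d₀, hd₀⟩ := hA1
  have hxd : ∀ d : A, d ≠ 1 → x ∈ CfsgLib.Coprime.coreIn 2 (centralizer ((zpowers (d : X) : Subgroup X) : Set X)) :=
    fun d hd => by
      rw [← CfsgLib.Coprime.centralizerPPrimeCore_eq]
      exact hD d d.2 (fun h => hd (Subtype.ext h)) hx
  have hzp : ∀ d : A, IsPGroup 2 (zpowers (d : X)) := fun d =>
    CfsgLib.Coprime.isPGroup_zpowers (p := 2) (k := 1) (by rw [pow_one]; exact hA.2 _ d.2)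
  have hxK : x ∈ normalizer (K : Set X) :=
    CfsgLib.Coprime.coreCentralizer_le_normalizer_component hO (hzp d₀) hK (hxd d₀ hd₀)
  set α : MulAut K := normalizerMonoidHom K ⟨x, hxK⟩ with hα
  have hαv : ∀ k : K, (α k : X) = x * k * x⁻¹ := fun k => rfl
  have hxodd : Odd (orderOf x) := by
    have h1 : orderOf x ∣ Nat.card (CfsgLib.Coprime.coreIn 2
        (centralizer ((zpowers (d₀ : X) : Subgroup X) : Set X))) :=
      Subgroup.orderOf_dvd_natCard _ (hxd d₀ hd₀)
    exact Nat.Coprime.odd_of_right ((CfsgLib.Coprime.coprime_card_coreIn Nat.prime_two _).coprime_dvd_left h1)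
  have hodd : Odd (orderOf α) := hxodd.of_dvd_nat ((orderOf_map_dvd _ _).trans
    (dvd_of_eq (Subgroup.orderOf_coe (⟨x, hxK⟩ : normalizer (K : Set X))).symm))
  -- `α` centralizes the centralizers of the images
  have hfixd : ∀ d : A, d ≠ 1 → ∀ c ∈ centralizer ({((v d : (R : Subgroup K)) : K)} : Set K), α c = c := by
    intro d hd c hcc
    set w : K := ((v d : (R : Subgroup K)) : K) with hw
    have hw1 : w ≠ 1 := fun h => hker ⟨d, d.2, fun h' => hd (Subtype.ext h'), by
      have := hv d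
      rwa [← hw, h, Subgroup.coe_one, inv_one, mul_one] at this⟩
    have hcent : ∀ c : K, c ∈ centralizer ({w} : Set K) ↔
        (c : X) ∈ centralizer ((zpowers (d : X) : Subgroup X) : Set X) := by
      intro c
      rw [CfsgLib.Coprime.centralizer_zpowers_eq, mem_centralizer_singleton_iff,
        mem_centralizer_singleton_iff]
      have hcd : (c : X) * ((d : X) * (w : X)⁻¹) = (d : X) * (w : X)⁻¹ * c :=
        mem_centralizer_iff.1 (hv d) c c.2
      have e : (d : X) = (d : X) * (w : X)⁻¹ * w := by group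
      constructor
      · intro h
        have h' : (c : X) * w = w * c := congrArg Subtype.val h
        calc (c : X) * d = (c : X) * ((d : X) * (w : X)⁻¹) * w := by rw [mul_assoc (c : X), ← e]
          _ = (d : X) * (w : X)⁻¹ * ((c : X) * w) := by rw [hcd, mul_assoc]
          _ = (d : X) * c := by rw [h', ← mul_assoc, ← e]
      · intro h
        refine Subtype.ext (mul_left_cancel (a := (d : X) * (w : X)⁻¹) ?_)
        show (d : X) * (w : X)⁻¹ * ((c : X) * w) = (d : X) * (w : X)⁻¹ * ((w : X) * c)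
        calc _ = (c : X) * ((d : X) * (w : X)⁻¹) * w := by rw [hcd]; group
          _ = (c : X) * d := by rw [mul_assoc, ← e]
          _ = _ := by rw [h, ← mul_assoc ((d : X) * (w : X)⁻¹), ← e]
    set C := centralizer ((zpowers (d : X) : Subgroup X) : Set X) with hC
    set B' := CfsgLib.Coprime.coreIn 2 C with hB
    set T : Subgroup K := B'.subgroupOf K with hT
    have hBC : B' ≤ C := CfsgLib.Coprime.coreIn_le _ _
    have hCB : C ≤ normalizer (B' : Set X) :=
      le_normalizer.trans (CfsgLib.Coprime.normalizer_le_normalizer_coreIn _ _)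
    have hTle : T ≤ CfsgLib.Coprime.coreIn 2 (centralizer ({w} : Set K)) := by
      refine CfsgLib.Coprime.le_coreIn (fun k hk => (hcent k).2 (hBC hk)) ?_ ?_
      · intro k hk
        refine Subgroup.mem_normalizer_iff.2 fun t => ?_
        exact Subgroup.mem_normalizer_iff.1 (hCB ((hcent k).1 hk)) (t : X)
      · refine (CfsgLib.Coprime.coprime_card_coreIn Nat.prime_two C).coprime_dvd_left ?_
        rw [← card_map_of_injective K.subtype_injective]
        exact card_dvd_of_le (map_comap_le _ _)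
    have hbot : CfsgLib.Coprime.coreIn 2 (centralizer ({w} : Set K)) = ⊥ := by
      have hw2 : orderOf w = 2 := by
        refine orderOf_eq_prime ?_ hw1
        rw [sq]
        exact (sylow_elementary hsimple hc R).2 w (v d).2
      show (Cfsg.pPrimeCore 2 _).map _ = ⊥
      rw [core_centralizer_eq_bot hsimple hc habK R h8 hw2, Subgroup.map_bot]
    have hmem : α c * c⁻¹ ∈ T := by
      show ((α c * c⁻¹ : K) : X) ∈ B'
      rw [Subgroup.coe_mul, Subgroup.coe_inv, hαv]
      have hcC := (hcent c).1 hcc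
      have h1 : x * ((c : X) * x⁻¹ * (c : X)⁻¹) ∈ B' :=
        mul_mem (hxd d hd) ((Subgroup.mem_normalizer_iff.1 (hCB hcC) _).1 (inv_mem (hxd d hd)))
      simpa [mul_assoc] using h1
    have h2 := hTle hmem
    rw [hbot, mem_bot] at h2
    exact mul_inv_eq_one.1 h2
  have hα1 : α = 1 := by
    refine aut_eq_one hsimple hc habK R h8 α hodd fun a ha ha1 c hc' => ?_
    by_cases h9 : Nat.card (R : Subgroup K) = 8
    · have hsurj : Function.Surjective v :=
        ((Nat.bijective_iff_injective_and_card v).2 ⟨hvinj, by rw [hcard, h9]⟩).2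
      obtain ⟨d, hd⟩ := hsurj ⟨a, ha⟩
      refine hfixd d (fun h => ?_) c (by rw [hd]; exact hc')
      subst h
      have h1 := hv 1
      rw [hd] at h1
      have h2 : ((a : K) : X) ∈ centralizer (K : Set X) := by simpa using h1
      have h3 : ((a : K) : X) ∈ K ⊓ centralizer (K : Set X) := ⟨a.2, h2⟩
      rw [hm.inf_centralizer, mem_bot] at h3
      exact ha1 (Subtype.ext h3)
    · have hcR := centralizer_le_sylow hsimple hc habK R (by omega) ha ha1 hc'
      refine hfixd d₀ hd₀ c (mem_centralizer_singleton_iff.2 ?_)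
      exact comm_of_mem habK R hcR (v d₀).2
  refine mem_centralizer_iff.2 fun k hk => ?_
  have := hαv ⟨k, hk⟩
  rw [hα1] at this
  have h' : x * k * x⁻¹ = k := this.symm
  exact (mul_inv_eq_iff_eq_mul.1 h').symm

theorem delta_quot_eq_bot (hO : Cfsg.pPrimeCore 2 X = ⊥) {B : Subgroup X} (hB : CompFacts B)
    {A : Subgroup X} (hAB : A ≤ B) (hA : Cfsg.IsElementaryAbelian 2 A) (hcard : Nat.card A = 8) :
    Cfsg.signalizerDelta 2 A = ⊥ := by
  haveI := Fact.mk Nat.prime_two
  obtain ⟨a, ha, ha1⟩ : ∃ a ∈ A, a ≠ 1 := by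
    by_contra h
    push Not at h
    rw [(eq_bot_iff_forall A).2 h, card_bot] at hcard
    omega
  set D := Cfsg.signalizerDelta 2 A
  have hDB : D ≤ CfsgLib.Coprime.coreIn 2 (centralizer ((zpowers a : Subgroup X) : Set X)) := by
    rw [← CfsgLib.Coprime.centralizerPPrimeCore_eq]
    exact iInf_le (fun a : {a : X // a ∈ A ∧ a ≠ 1} => Cfsg.centralizerPPrimeCore 2 (a : X))
      ⟨a, ha, ha1⟩
  obtain ⟨hcop, -, hBO, -, -⟩ := CfsgLib.Coprime.coreCentralizer_data
    (CfsgLib.Coprime.isPGroup_zpowers (p := 2) (k := 1) (x := a) (by rw [pow_one]; exact hA.2 a ha)) _ rfl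
  have hE : D ≤ centralizer (Cfsg.layer X : Set X) := by
    rw [le_centralizer_iff]
    exact sSup_le fun K hK =>
      le_centralizer_iff.1 (delta_le_centralizer_component hO hAB hA hcard hK (hB.met K hK))
  have hfit := CfsgLib.Coprime.fitting_eq_pCore_of_pPrimeCore_eq_bot hO
  have hF : D ≤ centralizer (Cfsg.generalizedFittingSubgroup X : Set X) := by
    rw [le_centralizer_iff, Cfsg.generalizedFittingSubgroup, hfit]
    exact sup_le (le_centralizer_iff.1 hE) (le_centralizer_iff.1 (hDB.trans hBO))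
  have h1 : D ≤ Cfsg.pCore 2 X := by
    rw [← hfit, ← CfsgLib.Coprime.generalizedFitting_inf_centralizer_layer]
    exact le_inf (hF.trans CfsgLib.Coprime.centralizer_generalizedFitting_le) hE
  rw [eq_bot_iff, ← CfsgLib.Coprime.pPrime_inf_pGroup_eq_bot hcop (CfsgLib.Coprime.pCore_isPGroup 2)]
  exact le_inf hDB h1

end Quot

variable {G : Type u} [Group G] [Finite G] {S : Sylow 2 G} {A : Subgroup G}

/-- `A` is `3`-balanced. -/
theorem delta_inf_centralizer_le (h : Facts S A) {D : Subgroup G} (hD : D ≤ A) (h8 : Nat.card D = 8) {b : G}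
    (hb : b ∈ A) (hb1 : b ≠ 1) :
    Cfsg.signalizerDelta 2 D ⊓ centralizer {b} ≤ Cfsg.centralizerPPrimeCore 2 b := by
  haveI := Fact.mk Nat.prime_two
  obtain ⟨A', rfl, hA', hcard, hle⟩ :=
    CfsgLib.Coprime.exists_signalizerDelta_image (p := 2) (h.elementary hD) fun a ha => h.comm (hD ha) hb
  have h0 : Cfsg.signalizerDelta 2 ((D.subgroupOf (centralizer ({b} : Set G))).map (proj b)) = ⊥ :=
    delta_quot_eq_bot (cq_core b) (h.comp b hb hb1) (map_mono (comap_mono hD)) hA' (hcard.trans h8)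
  rw [h0, le_bot_iff, Subgroup.map_eq_bot_iff, QuotientGroup.ker_mk'] at hle
  intro d hd
  exact ⟨⟨d, hd.2⟩, hle (mem_subgroupOf.2 hd), rfl⟩

theorem le_normalizer_delta (h : Facts S A) {D : Subgroup G} (hD : D ≤ A) :
    A ≤ normalizer (Cfsg.signalizerDelta 2 D : Set G) := by
  intro s hs
  refine mem_normalizer_fintype fun x hx => ?_
  refine Subgroup.mem_iInf.2 fun d => ?_
  exact (mem_normalizer_iff.1 (le_normalizer_core h (hD d.2.1) hs) x).1 (Subgroup.mem_iInf.1 hx d)

omit [Finite G] in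
theorem delta_le_core {D : Subgroup G} {d : G} (hd : d ∈ D) (hd1 : d ≠ 1) :
    Cfsg.signalizerDelta 2 D ≤ Cfsg.centralizerPPrimeCore 2 d :=
  iInf_le (fun a : {a : G // a ∈ D ∧ a ≠ 1} => Cfsg.centralizerPPrimeCore 2 (a : G)) ⟨d, hd, hd1⟩

theorem not_dvd_delta {D : Subgroup G} (hD : Nat.card D = 8) : ¬ 2 ∣ Nat.card (Cfsg.signalizerDelta 2 D) := by
  haveI : Nontrivial D := Finite.one_lt_card_iff_nontrivial.1 (by omega)
  obtain ⟨⟨d, hd⟩, hd1⟩ := exists_ne (1 : D)
  exact fun h => Phi.core_odd d (h.trans (card_dvd_of_le (delta_le_core hd fun e => hd1 (Subtype.ext e))))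

theorem delta_le_centralizer (D : Subgroup G) : Cfsg.signalizerDelta 2 D ≤ centralizer (D : Set G) := fun x hx =>
  mem_centralizer_iff.2 fun d hd => by
    by_cases hd1 : d = 1
    · rw [hd1, one_mul, mul_one]
    · exact (mem_centralizer_singleton_iff.1 (Subgroup.map_subtype_le _ (delta_le_core hd hd1 hx))).symm

/-- The subgroups generated by the `Δ(D) ∩ C(a)`, `D ≤ A` of order eight, form a signalizer functor. -/
theorem isSignalizerFunctor (h : Facts S A) (h32 : 32 ≤ Nat.card A) :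
    Cfsg.IsSignalizerFunctor 2 A (fun a => ⨆ D : {D : Subgroup G // D ≤ A ∧ Nat.card ↥D = 2 ^ 3},
      Cfsg.signalizerDelta 2 (D : Subgroup G) ⊓ centralizer {a}) := by
  classical
  haveI := Fact.mk Nat.prime_two
  have hA := h.elementary (le_refl A)
  have hAk : 2 ^ (3 + 2) ≤ Nat.card A := by norm_num; omega
  have hθcore : ∀ a ∈ A, a ≠ 1 →
      (⨆ D : {D : Subgroup G // D ≤ A ∧ Nat.card ↥D = 2 ^ 3},
        Cfsg.signalizerDelta 2 (D : Subgroup G) ⊓ centralizer {a}) ≤ Cfsg.centralizerPPrimeCore 2 a :=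
    fun a ha ha1 => iSup_le fun D => delta_inf_centralizer_le h D.2.1 (by rw [D.2.2]; norm_num) ha ha1
  have hCa : ∀ a ∈ A, A ≤ normalizer ((centralizer ({a} : Set G) : Subgroup G) : Set G) := fun a ha g hg =>
    le_normalizer (h.mem_centralizer ha hg)
  have hAΦ : ∀ a ∈ A, ∀ D : {D : Subgroup G // D ≤ A ∧ Nat.card ↥D = 2 ^ 3},
      A ≤ normalizer ((Cfsg.signalizerDelta 2 (D : Subgroup G) ⊓ centralizer {a} : Subgroup G) : Set G) :=
    fun a ha D => CfsgLib.Coprime.inf_le_normalizer (le_normalizer_delta h D.2.1) (hCa a ha)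
  have hAθ : ∀ a ∈ A, A ≤ normalizer ((⨆ D : {D : Subgroup G // D ≤ A ∧ Nat.card ↥D = 2 ^ 3},
        Cfsg.signalizerDelta 2 (D : Subgroup G) ⊓ centralizer {a} : Subgroup G) : Set G) := by
    intro a ha g hg
    rw [← CfsgLib.Coprime.conjBy_eq_self_iff, CfsgLib.Coprime.conjBy, Subgroup.map_iSup]
    exact iSup_congr fun D => CfsgLib.Coprime.conjBy_eq_self_iff.2 (hAΦ a ha D hg)
  have hodd : ∀ a ∈ A, a ≠ 1 → ¬ 2 ∣ Nat.card (⨆ D : {D : Subgroup G // D ≤ A ∧ Nat.card ↥D = 2 ^ 3},
      Cfsg.signalizerDelta 2 (D : Subgroup G) ⊓ centralizer {a} : Subgroup G) :=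
    fun a ha ha1 h' => Phi.core_odd a (h'.trans (card_dvd_of_le (hθcore a ha ha1)))
  refine ⟨fun a _ _ => iSup_le fun D => inf_le_right, hodd,
    fun a ha _ g hg x hx => (mem_normalizer_iff.1 (hAθ a ha hg) x).1 hx, fun a ha ha1 b hb hb1 => ?_⟩
  refine CfsgLib.Coprime.le_of_hyperplanes hA ((Nat.pow_le_pow_right two_pos (by norm_num)).trans hAk)
    (fun h' => hodd a ha ha1 (h'.trans (card_dvd_of_le inf_le_left)))
    (CfsgLib.Coprime.inf_le_normalizer (hAθ a ha) (hCa b hb)) fun E hE hi x hx => ?_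
  obtain ⟨D, hD⟩ := CfsgLib.Coprime.BalFam.exists_sub (k := 3) hA hE
    ((Nat.pow_le_pow_right two_pos (Nat.le_succ 3)).trans (CfsgLib.Coprime.BalFam.card_hyperplane hAk hE hi))
  have hmem := CfsgLib.Coprime.BalFam.sup_inf_centralizer_le hA hAk
    (fun D : {D : Subgroup G // D ≤ A ∧ Nat.card ↥D = 2 ^ 3} =>
      Cfsg.signalizerDelta 2 (D : Subgroup G) ⊓ centralizer {a})
    (fun D => inf_le_left.trans (delta_le_centralizer _)) (hAΦ a ha)
    (fun D D' y hy => ⟨by
      refine Subgroup.mem_iInf.2 fun d => ?_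
      refine delta_inf_centralizer_le h D.2.1 (by rw [D.2.2]; norm_num) (D'.2.1 d.2.1) d.2.2 ⟨hy.1.1, ?_⟩
      exact Subgroup.centralizer_le (Set.singleton_subset_iff.2 d.2.1) hy.2, hy.1.2⟩)
    rfl (CfsgLib.FT.isSolvable_of_odd _ (Nat.odd_iff.2 (Nat.two_dvd_ne_zero.1 (hodd a ha ha1))))
    (hodd a ha ha1) D ⟨hx.1.1, Subgroup.centralizer_le hD hx.2⟩
  exact le_iSup (fun D : {D : Subgroup G // D ≤ A ∧ Nat.card ↥D = 2 ^ 3} =>
    Cfsg.signalizerDelta 2 (D : Subgroup G) ⊓ centralizer {b}) D ⟨hmem.1, hx.1.2⟩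

omit [Finite G] in
theorem card_hyperplane {F E : Subgroup G} (hFE : F ≤ E) (hFi : F.relIndex E = 2) :
    Nat.card F * 2 = Nat.card E := by
  rw [← hFi, ← Subgroup.relIndex_bot_left (H := F), ← Subgroup.relIndex_bot_left (H := E)]
  exact Subgroup.relIndex_mul_relIndex ⊥ F E bot_le hFE

/-- `W` is generated by the `Δ(D)` with `D` in any subgroup of order at least sixteen. -/
theorem deltaClosure_eq (h : Facts S A) {E : Subgroup G} (hE : E ≤ A) (h16 : 16 ≤ Nat.card E) :
    deltaClosure A = deltaClosure E := by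
  haveI := Fact.mk Nat.prime_two
  refine le_antisymm (iSup_le fun D => ?_)
    (iSup_le fun D => le_iSup (fun D : {D : Subgroup G // D ≤ A ∧ Nat.card ↥D = 8} =>
      Cfsg.signalizerDelta 2 (D : Subgroup G)) ⟨D, D.2.1.trans hE, D.2.2⟩)
  refine CfsgLib.Coprime.le_of_hyperplanes (h.elementary hE) (by omega)
    (not_dvd_delta D.2.2) (hE.trans (le_normalizer_delta h D.2.1)) fun F hFE hFi => ?_
  have h1 := card_hyperplane hFE hFi
  obtain ⟨D', hD'⟩ := CfsgLib.Coprime.BalFam.exists_sub (k := 3) (h.elementary hE) hFE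
    (show 2 ^ 3 ≤ Nat.card F by norm_num; omega)
  refine le_trans ?_ (le_iSup (fun D : {D : Subgroup G // D ≤ E ∧ Nat.card ↥D = 8} =>
    Cfsg.signalizerDelta 2 (D : Subgroup G)) ⟨D', D'.2.1, by rw [D'.2.2]; norm_num⟩)
  refine le_iInf fun d => (inf_le_inf_left _ (Subgroup.centralizer_le (Set.singleton_subset_iff.2 (hD' d.2.1)))).trans ?_
  exact delta_inf_centralizer_le h D.2.1 D.2.2 (hE (D'.2.1 d.2.1)) d.2.2

theorem deltaClosure_odd (h : Facts S A) (h32 : 32 ≤ Nat.card A) : ¬ 2 ∣ Nat.card (deltaClosure A) := by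
  haveI := Fact.mk Nat.prime_two
  have hAe := h.elementary (le_refl A)
  have hf := isSignalizerFunctor h h32
  obtain ⟨X, hX, hXθ⟩ := CfsgLib.SolvSignalizer.exists_complete hAe (by norm_num; omega)
    (θ := fun a : G => ⨆ D : {D : Subgroup G // D ≤ A ∧ Nat.card ↥D = 2 ^ 3},
      Cfsg.signalizerDelta 2 (D : Subgroup G) ⊓ centralizer {a})
    ⟨hf, fun a ha ha1 => CfsgLib.FT.isSolvable_of_odd _
      (Nat.odd_iff.2 (Nat.two_dvd_ne_zero.1 (hf.2.1 a ha ha1)))⟩
  have hWX : deltaClosure A ≤ X := by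
    refine iSup_le fun D => ?_
    refine CfsgLib.Coprime.le_of_hyperplanes hAe (by omega) (not_dvd_delta D.2.2)
      (le_normalizer_delta h D.2.1) fun F hFA hFi => ?_
    have h1 := card_hyperplane hFA hFi
    haveI : Nontrivial F := Finite.one_lt_card_iff_nontrivial.1 (by omega)
    obtain ⟨⟨a, ha⟩, ha1⟩ := exists_ne (1 : F)
    refine (inf_le_inf_left _ (Subgroup.centralizer_le (Set.singleton_subset_iff.2 ha))).trans
      (le_trans ?_ (hXθ a (hFA ha) fun e => ha1 (Subtype.ext e)))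
    exact le_iSup (fun D : {D : Subgroup G // D ≤ A ∧ Nat.card ↥D = 2 ^ 3} =>
      Cfsg.signalizerDelta 2 (D : Subgroup G) ⊓ centralizer ({a} : Set G))
      ⟨D, D.2.1, by rw [D.2.2]; norm_num⟩
  exact fun h' => hX.2.1 (h'.trans (card_dvd_of_le hWX))

theorem Frame.thirtytwo_le (h : Facts S A) (F : Frame A) : 32 ≤ Nat.card A := by
  obtain ⟨b, hb, -⟩ := F.exists_three
  obtain ⟨y, hy⟩ := F.pair b hb
  have h1 := hy.inf_eq h
  have hinj : Function.Injective fun q : b.1 × b.2 => (⟨(q.1 : G) * q.2, mul_mem (hy.le_left q.1.2) (hy.le_right q.2.2)⟩ : A) :=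
    fun p q e => Subgroup.mul_injective_of_disjoint (disjoint_iff.2 h1) (congrArg Subtype.val e)
  have h2 := Nat.card_le_card_of_injective _ hinj
  rw [Nat.card_prod] at h2
  have h3 := Nat.mul_le_mul (F.sixteen b hb) (hy.four_le h)
  omega

/-- With a frame every `Δ(D)` is trivial. -/
theorem delta_eq_bot (h : Facts S A) (F : Frame A) {D : Subgroup G} (hD : D ≤ A) (h8 : Nat.card D = 8) :
    Cfsg.signalizerDelta 2 D = ⊥ := by
  haveI := Fact.mk Nat.prime_two
  haveI := h.setting.simple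
  have h32 := F.thirtytwo_le h
  set W := deltaClosure A with hW
  have hnorm : ∀ E : Subgroup G, E ≤ A → 16 ≤ Nat.card E →
      centralizer (E : Set G) ≤ normalizer (W : Set G) := by
    intro E hE hE16 g hg
    rw [hW, deltaClosure_eq h hE hE16]
    refine mem_normalizer_of_map_le ?_
    rw [deltaClosure, Subgroup.map_iSup]
    refine iSup_mono fun D => (map_delta g D).trans (le_of_eq ?_)
    congr 1
    have hfix : ∀ x ∈ (D : Subgroup G), MulAut.conj g x = x := fun x hx => by
      rw [MulAut.conj_apply, ← mem_centralizer_iff.1 hg x (D.2.1 hx), mul_inv_cancel_right]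
    ext x
    constructor
    · rintro ⟨d, hd, rfl⟩
      show MulAut.conj g d ∈ (D : Subgroup G)
      rw [hfix d hd]; exact hd
    · exact fun hx => ⟨x, hx, hfix x hx⟩
  have hNS : normalizer (A : Set G) ≤ normalizer (W : Set G) := by
    intro g hg
    refine mem_normalizer_of_map_le ?_
    rw [hW, deltaClosure, Subgroup.map_iSup]
    refine iSup_le fun D => (map_delta g D).trans ?_
    refine le_iSup (fun D : {D : Subgroup G // D ≤ A ∧ Nat.card ↥D = 8} =>
      Cfsg.signalizerDelta 2 (D : Subgroup G)) ⟨_, ?_, ?_⟩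
    · exact (map_mono D.2.1).trans (le_of_eq (CfsgLib.Coprime.conjBy_eq_self_iff.2 hg))
    · exact (card_map_of_injective (f := (MulAut.conj g).toMonoidHom) (MulAut.conj g).injective).trans D.2.2
  have htop := eq_top_of_local h (M := normalizer (W : Set G)) hNS
    (fun U hU hi => hnorm U hU (by have := card_hyperplane hU hi; omega))
    (fun x R V hRV => by
      obtain ⟨b, hb, -, hbR⟩ := F.cover x R V hRV
      exact (resA_le A _).trans (hnorm R hRV.le_left ((F.sixteen b hb).trans (Subgroup.card_le_of_le hbR))))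
  haveI : W.Normal := Subgroup.normalizer_eq_top_iff.1 htop
  rcases (inferInstance : W.Normal).eq_bot_or_eq_top with hW0 | hW0
  · exact eq_bot_iff.2 ((le_iSup (fun D : {D : Subgroup G // D ≤ A ∧ Nat.card ↥D = 8} =>
      Cfsg.signalizerDelta 2 (D : Subgroup G)) ⟨D, hD, h8⟩).trans hW0.le)
  · exfalso
    apply deltaClosure_odd h h32
    rw [← hW, hW0, Subgroup.card_top]
    exact h.setting.two_dvd_card

end CfsgLib.Gold.Split
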