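import Cfsg.Agent.Lib.Goldschmidt.Split.Facts
import Cfsg.Agent.Lib.Walter.Rank.Transfer
import Cfsg.Agent.Lib.Walter.Rank.Criterion
import Cfsg.Agent.Lib.Walter.Rank.Factor
import Cfsg.Agent.Lib.Invol.Basic

/-!
# The case of an elementary centralizer: basic consequences

A strongly closed subgroup is strongly closed in every Sylow `2`-subgroup containing it, so the conjugates of
its elements in `C(y)` are conjugate in `C(y)` into it. `resA A H` is the largest perfect subgroup of `H`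
generated by conjugates of elements of `A`; for a met pair it covers the component.
-/

set_option autoImplicit false
set_option linter.style.haveILetI false

namespace CfsgLib.Gold.Split

open Subgroup
open scoped commutatorElement
open CfsgLib.Walter.Rank (CQ proj pre mem_pre mem_pre_iff pre_le cq_core res res_le le_res commutator_res)

universe u

variable {G : Type u} [Group G]

/-- The conjugates of the elements of `A`. -/
def conjSet (A : Subgroup G) : Set G := {z | ∃ a ∈ A, ∃ g : G, g * a * g⁻¹ = z}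

theorem subset_conjSet (A : Subgroup G) : (A : Set G) ⊆ conjSet A := fun a ha => ⟨a, ha, 1, by simp⟩

theorem conj_mem_conjSet {A : Subgroup G} {z : G} (hz : z ∈ conjSet A) (n : G) :
    n * z * n⁻¹ ∈ conjSet A := by
  obtain ⟨a, ha, g, rfl⟩ := hz
  exact ⟨a, ha, n * g, by group⟩

/-- Perfect and generated by conjugates of elements of `A`. -/
def IsGenPerfect (A P : Subgroup G) : Prop :=
  ⁅P, P⁆ = P ∧ P ≤ closure ((P : Set G) ∩ conjSet A)

/-- The largest perfect subgroup of `H` generated by conjugates of elements of `A`. -/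
def resA (A H : Subgroup G) : Subgroup G := sSup {P : Subgroup G | P ≤ H ∧ IsGenPerfect A P}

theorem resA_le (A H : Subgroup G) : resA A H ≤ H := sSup_le fun _ hP => hP.1

theorem le_resA {A P H : Subgroup G} (h : P ≤ H) (hP : IsGenPerfect A P) : P ≤ resA A H :=
  le_sSup ⟨h, hP⟩

theorem resA_mono {A H K : Subgroup G} (h : H ≤ K) : resA A H ≤ resA A K :=
  sSup_le fun _ hP => le_resA (hP.1.trans h) hP.2

theorem isGenPerfect_resA (A H : Subgroup G) : IsGenPerfect A (resA A H) := by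
  refine ⟨le_antisymm (commutator_le_self _) (sSup_le fun P hP => ?_),
    sSup_le fun P hP => hP.2.2.trans (closure_mono (Set.inter_subset_inter_left _ (le_resA hP.1 hP.2)))⟩
  calc P = ⁅P, P⁆ := hP.2.1.symm
    _ ≤ ⁅resA A H, resA A H⁆ := commutator_mono (le_resA hP.1 hP.2) (le_resA hP.1 hP.2)

theorem resA_map_conj (A H : Subgroup G) (n : G) :
    (resA A H).map (MulAut.conj n).toMonoidHom ≤ resA A (H.map (MulAut.conj n).toMonoidHom) := by
  refine le_resA (map_mono (resA_le A H)) ⟨by rw [← map_commutator, (isGenPerfect_resA A H).1], ?_⟩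
  refine (map_mono (isGenPerfect_resA A H).2).trans ?_
  rw [MonoidHom.map_closure]
  refine closure_mono ?_
  rintro _ ⟨z, ⟨hz, hzA⟩, rfl⟩
  exact ⟨mem_map_of_mem _ hz, conj_mem_conjSet hzA n⟩

/-- A perfect group is contained in a normal subgroup of odd index. -/
theorem eq_of_odd_relIndex_perfect [Finite G] {N J : Subgroup G} (hn : J ≤ normalizer (N : Set G)) (hNJ : N ≤ J)
    (hJ : ⁅J, J⁆ = J) (hodd : ¬ 2 ∣ N.relIndex J) : N = J := by
  haveI : (N.subgroupOf J).Normal := (normal_subgroupOf_iff_le_normalizer hNJ).2 hn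
  have hodd' : Odd (Nat.card (J ⧸ N.subgroupOf J)) := by
    rw [← index_eq_card]
    exact Nat.odd_iff.2 (Nat.two_dvd_ne_zero.1 hodd)
  haveI := CfsgLib.FT.isSolvable_of_odd _ hodd'
  haveI : Group.IsPerfect J := Subgroup.isPerfect_iff.2 hJ
  have hsub : Subsingleton (J ⧸ N.subgroupOf J) := by
    by_contra hne
    rw [not_subsingleton_iff_nontrivial] at hne
    haveI : Group.IsPerfect (J ⧸ N.subgroupOf J) :=
      Group.IsPerfect.ofSurjective (QuotientGroup.mk'_surjective _)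
    exact Group.IsPerfect.not_isSolvable (J ⧸ N.subgroupOf J) inferInstance
  exact le_antisymm hNJ (Subgroup.subgroupOf_eq_top.1 (QuotientGroup.subsingleton_iff.1 hsub))

/-- An odd subgroup normalized by a nonabelian simple component centralizes it. -/
theorem odd_le_centralizer_simple {X : Type u} [Group X] [Finite X] (hO : Cfsg.pPrimeCore 2 X = ⊥)
    {K Y : Subgroup X} (hK : Cfsg.IsComponent K) (hs : IsSimpleGroup K) (hY : ¬ 2 ∣ Nat.card Y)
    (hn : K ≤ normalizer (Y : Set X)) : Y ≤ centralizer (K : Set X) := by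
  haveI := Fact.mk Nat.prime_two
  haveI := CfsgLib.Coprime.layer_normal (G := X)
  set Z := Y ⊓ Cfsg.layer X
  have hKL := CfsgLib.Coprime.component_le_layer hK
  have hKZ : K ≤ normalizer (Z : Set X) := CfsgLib.Coprime.inf_le_normalizer hn
    (by rw [Subgroup.normalizer_eq_top]; exact le_top)
  have hcomm : ⁅Y, K⁆ ≤ Z := le_inf
    (commutator_le.2 fun a ha b hb => by
      rw [show ⁅a, b⁆ = a * (b * a⁻¹ * b⁻¹) by rw [commutatorElement_def]; group]
      exact mul_mem ha ((mem_normalizer_iff.1 (hn hb) _).1 (inv_mem ha)))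
    ((commutator_mono le_top hKL).trans (commutator_le_right _ _))
  have hZK : Z ⊓ K = ⊥ := by
    haveI : ((Z ⊓ K).subgroupOf K).Normal := (normal_subgroupOf_iff_le_normalizer inf_le_right).2
      (CfsgLib.Coprime.inf_le_normalizer hKZ le_normalizer)
    haveI := hs
    rcases (inferInstance : ((Z ⊓ K).subgroupOf K).Normal).eq_bot_or_eq_top with h | h
    · rwa [subgroupOf_eq_bot, disjoint_iff, inf_assoc, inf_idem] at h
    · exact absurd ((CfsgLib.Coprime.dvd_card_of_isComponent hO hK).trans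
        (card_dvd_of_le ((subgroupOf_eq_top.1 h).trans (inf_le_left.trans inf_le_left)))) hY
  have h1 : ⁅⁅Y, K⁆, K⁆ = ⊥ := by
    refine le_bot_iff.1 ((commutator_mono hcomm le_rfl).trans ?_)
    rw [← hZK]
    refine commutator_le.2 fun a ha b hb => Subgroup.mem_inf.2 ⟨?_, ?_⟩
    · rw [show ⁅a, b⁆ = a * (b * a⁻¹ * b⁻¹) by rw [commutatorElement_def]; group]
      exact mul_mem ha ((mem_normalizer_iff.1 (hKZ hb) _).1 (inv_mem ha))
    · exact K.mul_mem ((mem_normalizer_iff.1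
        (CfsgLib.Coprime.layer_le_normalizer_component hK ha.2) b).1 hb) (K.inv_mem hb)
  have h2 : ⁅⁅K, Y⁆, K⁆ = ⊥ := by rwa [commutator_comm K Y]
  have h3 := commutator_commutator_eq_bot_of_rotate (H₁ := K) (H₂ := K) (H₃ := Y) h2 h1
  rw [CfsgLib.Coprime.commutator_self_of_isComponent hK] at h3
  exact commutator_eq_bot_iff_le_centralizer.1 (by rwa [commutator_comm] at h3)

theorem Met.inf_centralizer {X : Type u} [Group X] {B K : Subgroup X} (h : Met B K) :
    K ⊓ centralizer (K : Set X) = ⊥ := by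
  haveI := h.simple
  haveI : ((centralizer (K : Set X)).subgroupOf K).Normal := ⟨fun n hn g => by
    have e : g * n * g⁻¹ = n := Subtype.ext (by
      have h1 : (g : X) * (n : X) = (n : X) * (g : X) :=
        mem_centralizer_iff.1 (mem_subgroupOf.1 hn) (g : X) g.2
      rw [Subgroup.coe_mul, Subgroup.coe_mul, Subgroup.coe_inv, h1, mul_inv_cancel_right])
    rwa [e]⟩
  rcases (inferInstance : ((centralizer (K : Set X)).subgroupOf K).Normal).eq_bot_or_eq_top with h1 | h1
  · rwa [subgroupOf_eq_bot, disjoint_iff, inf_comm] at h1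
  · exact absurd ⟨⟨fun a b => Subtype.ext
      (mem_centralizer_iff.1 (subgroupOf_eq_top.1 h1 b.2) a a.2)⟩⟩ h.noncomm

theorem Met.four_le {X : Type u} [Group X] [Finite X] {B K : Subgroup X} (h : Met B K) :
    4 ≤ Nat.card ↥(B ⊓ K) := by
  obtain ⟨R, hR⟩ := h.sylow
  rw [← hR, card_map_of_injective K.subtype_injective]
  exact (CfsgLib.Walter.Rank.sylow_elementary h.simple h.cent R).1

theorem Met.not_le {X : Type u} [Group X] [Finite X] {B K : Subgroup X} (h : Met B K) :
    ¬ B ≤ centralizer (K : Set X) := by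
  intro hle
  have h4 := h.four_le
  rw [show B ⊓ K = ⊥ from le_bot_iff.1 ((inf_le_inf hle le_rfl).trans
    (by rw [inf_comm, h.inf_centralizer])), Subgroup.card_bot] at h4
  omega

variable [Finite G] {S : Sylow 2 G} {A : Subgroup G}

theorem Facts.le_sylow (h : Facts S A) : A ≤ (S : Subgroup G) := h.setting.closed.1

theorem Facts.comm (h : Facts S A) {a b : G} (ha : a ∈ A) (hb : b ∈ A) : a * b = b * a :=
  congrArg Subtype.val (isMulCommutative_iff.1 h.setting.comm ⟨a, ha⟩ ⟨b, hb⟩)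

theorem Facts.elementary (h : Facts S A) {E : Subgroup G} (hE : E ≤ A) : Cfsg.IsElementaryAbelian 2 E :=
  CfsgLib.Walter.Rank.isElementary_of_sq fun e he => h.setting.sq e (hE he)

theorem Facts.order_two (h : Facts S A) {y : G} (hy : y ∈ A) (hy1 : y ≠ 1) : orderOf y = 2 :=
  haveI : Fact (Nat.Prime 2) := ⟨Nat.prime_two⟩
  orderOf_eq_prime (by rw [sq]; exact h.setting.sq y hy) hy1

theorem Facts.mem_centralizer (h : Facts S A) {y a : G} (hy : y ∈ A) (ha : a ∈ A) :
    a ∈ centralizer ({y} : Set G) :=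
  mem_centralizer_singleton_iff.2 (h.comm ha hy)

theorem Facts.eq_one_of_proj (h : Facts S A) {y a : G} (ha : a ∈ A) (hc : a ∈ centralizer ({y} : Set G))
    (he : proj y ⟨a, hc⟩ = 1) : a = 1 :=
  CfsgLib.Walter.Rank.eq_one_of_proj (S := S) (h.le_sylow ha) hc he

/-- `A` is strongly closed in every Sylow subgroup containing it. -/
theorem Facts.mem_of_conj (h : Facts S A) (T : Sylow 2 G) (hAT : A ≤ (T : Subgroup G)) {a g : G}
    (ha : a ∈ A) (hg : g * a * g⁻¹ ∈ (T : Subgroup G)) : g * a * g⁻¹ ∈ A := by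
  haveI : Fact (Nat.Prime 2) := ⟨Nat.prime_two⟩
  obtain ⟨k, hk⟩ := MulAction.exists_smul_eq G T S
  have hT : ∀ t ∈ (T : Subgroup G), k * t * k⁻¹ ∈ (S : Subgroup G) := fun t ht => by
    rw [← hk, Sylow.coe_subgroup_smul]
    exact mem_map_of_mem _ ht
  have hkA : A.map (MulAut.conj k).toMonoidHom ≤ A := by
    rintro _ ⟨b, hb, rfl⟩
    exact h.setting.closed.2 b hb k (hT b (hAT hb))
  have heq := eq_of_le_of_card_ge hkA
    (card_map_of_injective (f := (MulAut.conj k).toMonoidHom) (MulAut.conj k).injective).ge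
  have h1 := h.setting.closed.2 a ha (k * g) (by
    rw [show k * g * a * (k * g)⁻¹ = k * (g * a * g⁻¹) * k⁻¹ by group]
    exact hT _ hg)
  rw [show k * g * a * (k * g)⁻¹ = k * (g * a * g⁻¹) * k⁻¹ by group] at h1
  obtain ⟨b, hb, hbe⟩ := heq.ge h1
  rwa [← show b = g * a * g⁻¹ from (MulAut.conj k).injective hbe]

/-- A conjugate of an element of `A` centralizing `y ∈ A` is conjugate into `A` inside `C(y)`. -/
theorem Facts.exists_conj_mem (h : Facts S A) {y z : G} (hy : y ∈ A) (hz : z ∈ conjSet A)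
    (hzc : z ∈ centralizer ({y} : Set G)) :
    ∃ c ∈ centralizer ({y} : Set G), c * z * c⁻¹ ∈ A := by
  haveI : Fact (Nat.Prime 2) := ⟨Nat.prime_two⟩
  set C := centralizer ({y} : Set G)
  have hAC : A ≤ C := fun a ha => h.mem_centralizer hy ha
  have hAp : IsPGroup 2 A := S.2.to_le h.le_sylow
  obtain ⟨T₀, hT₀⟩ := (hAp.comap_of_injective C.subtype C.subtype_injective).exists_le_sylow
  obtain ⟨T, hT⟩ := (T₀.2.map C.subtype).exists_le_sylow
  obtain ⟨a, ha, g, rfl⟩ := hz
  have h2 : (⟨g * a * g⁻¹, hzc⟩ : C) ^ 2 ^ 1 = 1 := Subtype.ext (by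
    rw [pow_one, SubgroupClass.coe_pow, sq, Subgroup.coe_one,
      show g * a * g⁻¹ * (g * a * g⁻¹) = g * (a * a) * g⁻¹ by group, h.setting.sq a ha]
    group)
  obtain ⟨c, hc⟩ := CfsgLib.Invol.exists_conj_le_sylow (CfsgLib.Coprime.isPGroup_zpowers (p := 2) h2) T₀
  refine ⟨c, c.2, ?_⟩
  have h1 : (c : G) * g * a * ((c : G) * g)⁻¹ ∈ (T : Subgroup G) := by
    rw [show (c : G) * g * a * ((c : G) * g)⁻¹ = (c : G) * (g * a * g⁻¹) * (c : G)⁻¹ by group]
    exact hT (mem_map_of_mem C.subtype (hc _ (mem_zpowers _)))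
  have h3 := h.mem_of_conj T (fun b hb => hT ⟨⟨b, hAC hb⟩, hT₀ hb, rfl⟩) ha h1
  rwa [show (c : G) * g * a * ((c : G) * g)⁻¹ = (c : G) * (g * a * g⁻¹) * (c : G)⁻¹ by group] at h3

/-- The image of a conjugate of an element of `A` lies in the normal closure of the image of `A`. -/
theorem Facts.proj_mem_normalClosure (h : Facts S A) {y z : G} (hy : y ∈ A) (hz : z ∈ conjSet A)
    (hzc : z ∈ centralizer ({y} : Set G)) : proj y ⟨z, hzc⟩ ∈ normalClosure (img A y : Set (CQ y)) := by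
  obtain ⟨c, hc, hca⟩ := h.exists_conj_mem hy hz hzc
  set C := centralizer ({y} : Set G)
  have hac : c * z * c⁻¹ ∈ C := h.mem_centralizer hy hca
  have e : (⟨z, hzc⟩ : C) = (⟨c, hc⟩ : C)⁻¹ * ⟨c * z * c⁻¹, hac⟩ * (⟨c, hc⟩ : C) :=
    Subtype.ext (by simp only [Subgroup.coe_mul, Subgroup.coe_inv]; group)
  rw [e, map_mul, map_mul, map_inv]
  have hm : proj y ⟨c * z * c⁻¹, hac⟩ ∈ normalClosure (img A y : Set (CQ y)) :=
    subset_normalClosure (mem_map_of_mem _ (mem_subgroupOf.2 hca))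
  simpa using normalClosure_normal.conj_mem _ hm (proj y ⟨c, hc⟩)⁻¹

theorem Facts.mem_img (h : Facts S A) {y a : G} (hy : y ∈ A) (ha : a ∈ A) :
    proj y ⟨a, h.mem_centralizer hy ha⟩ ∈ img A y :=
  mem_map_of_mem _ (mem_subgroupOf.2 ha)

theorem IsMetPairAt.le_left {y : G} {R V : Subgroup G} (hp : IsMetPairAt A y R V) : R ≤ A := by
  obtain ⟨-, -, K, -, -, -, rfl⟩ := hp
  exact inf_le_right

theorem IsMetPairAt.le_right {y : G} {R V : Subgroup G} (hp : IsMetPairAt A y R V) : V ≤ A := by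
  obtain ⟨-, -, K, -, -, rfl, -⟩ := hp
  exact inf_le_right

theorem IsMetPairAt.mem_left (h : Facts S A) {y : G} {R V : Subgroup G} (hp : IsMetPairAt A y R V) :
    y ∈ R := by
  obtain ⟨hy, -, K, -, -, -, rfl⟩ := hp
  refine ⟨(mem_pre_iff (h.mem_centralizer hy hy)).2 (mem_centralizer_iff.2 fun k _ => ?_), hy⟩
  obtain ⟨⟨g, hg⟩, rfl⟩ := QuotientGroup.mk'_surjective _ k
  rw [← map_mul, ← map_mul]
  exact congrArg _ (Subtype.ext (mem_centralizer_singleton_iff.1 hg))

theorem IsMetPairAt.inf_eq (h : Facts S A) {y : G} {R V : Subgroup G} (hp : IsMetPairAt A y R V) :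
    R ⊓ V = ⊥ := by
  obtain ⟨hy, hy1, K, hK, hmet, rfl, rfl⟩ := hp
  refine (Subgroup.eq_bot_iff_forall _).2 fun x ⟨⟨h1, hxA⟩, h2, _⟩ => ?_
  obtain ⟨hc, h1'⟩ := mem_pre.1 h1
  have h3 : proj y ⟨x, hc⟩ ∈ K ⊓ centralizer (K : Set (CQ y)) := ⟨(mem_pre_iff hc).1 h2, h1'⟩
  rw [((h.comp y hy hy1).met K hK hmet).inf_centralizer, Subgroup.mem_bot] at h3
  exact h.eq_one_of_proj hxA hc h3

/-- The trace of `A` in a component is the trace of its image. -/
theorem img_inf (A : Subgroup G) (y : G) (K : Subgroup (CQ y)) :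
    img A y ⊓ K = ((pre y K ⊓ A).subgroupOf (centralizer ({y} : Set G))).map (proj y) := by
  refine le_antisymm ?_ ?_
  · rintro _ ⟨⟨a, ha, rfl⟩, hK⟩
    exact mem_map_of_mem _ (mem_subgroupOf.2 ⟨(mem_pre_iff a.2).2 hK, mem_subgroupOf.1 ha⟩)
  · rintro _ ⟨a, ha, rfl⟩
    exact ⟨mem_map_of_mem _ (mem_subgroupOf.2 (mem_subgroupOf.1 ha).2),
      (mem_pre_iff a.2).1 (mem_subgroupOf.1 ha).1⟩

/-- The image is isomorphic to the subgroup. -/
theorem Facts.card_map_proj (h : Facts S A) {y : G} (hy : y ∈ A) {E : Subgroup G} (hE : E ≤ A) :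
    Nat.card ↥((E.subgroupOf (centralizer ({y} : Set G))).map (proj y)) = Nat.card E := by
  have hEC : E ≤ centralizer ({y} : Set G) := fun e he => h.mem_centralizer hy (hE he)
  rw [← Nat.card_congr (subgroupOfEquivOfLe hEC).toEquiv]
  refine Nat.card_image_of_injOn fun a ha b hb e => Subtype.ext (mul_inv_eq_one.1 ?_)
  refine h.eq_one_of_proj (hE (mem_subgroupOf.1 (mul_mem ha (inv_mem hb)))) (a * b⁻¹).2 ?_
  show proj y (a * b⁻¹) = 1
  rw [map_mul, map_inv, e, mul_inv_cancel]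

theorem IsMetPairAt.four_le (h : Facts S A) {y : G} {R V : Subgroup G} (hp : IsMetPairAt A y R V) :
    4 ≤ Nat.card V := by
  obtain ⟨hy, hy1, K, hK, hmet, rfl, -⟩ := hp
  have h4 := ((h.comp y hy hy1).met K hK hmet).four_le
  rwa [img_inf, h.card_map_proj hy inf_le_right] at h4

/-- A met component is covered by a perfect subgroup of `C(R)` generated by conjugates of elements of `A`. -/
theorem le_map_resA (h : Facts S A) {y : G} (hy : y ∈ A) (hy1 : y ≠ 1) {K : Subgroup (CQ y)}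
    (hK : Cfsg.IsComponent K) (hmet : ¬ img A y ≤ centralizer (K : Set (CQ y))) :
    K ≤ ((resA A (centralizer ((pre y (centralizer (K : Set (CQ y))) ⊓ A : Subgroup G) : Set G))).subgroupOf
      (centralizer ({y} : Set G))).map (proj y) := by
  haveI : Fact (Nat.Prime 2) := ⟨Nat.prime_two⟩
  have hm := (h.comp y hy hy1).met K hK hmet
  set R := pre y (centralizer (K : Set (CQ y))) ⊓ A
  set V := pre y K ⊓ A
  set C := centralizer ({y} : Set G)
  have hperf : ⁅K, K⁆ = K := CfsgLib.Coprime.commutator_self_of_isComponent hK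
  have hpair : IsMetPairAt A y R V := ⟨hy, hy1, K, hK, hmet, rfl, rfl⟩
  have hRA : R ≤ A := inf_le_right
  have hle := CfsgLib.Walter.Rank.le_map_res_centralizer (y := y) (Q := R) (S.2.to_le (hRA.trans h.le_sylow))
    (fun r hr => h.mem_centralizer hy (hRA hr)) hperf fun j hj q hq =>
      mem_centralizer_iff.1 ((mem_pre_iff (h.mem_centralizer hy (hRA hq))).1 hq.1) j hj
  set M := pre y K ⊓ centralizer (R : Set G) with hM
  obtain ⟨C₁, hC₁, hC₁p, hC₁K⟩ := CfsgLib.Coprime.exists_perfect_le (proj y) (C := M.subgroupOf C) hperf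
    fun k hk => by
      obtain ⟨a, ha, rfl⟩ := hle hk
      exact ⟨a, mem_subgroupOf.2 ⟨(mem_pre_iff a.2).2 hk, res_le _ (mem_subgroupOf.1 ha)⟩, rfl⟩
  have hC₁M : C₁.map C.subtype ≤ res M := le_res (by
      rintro _ ⟨a, ha, rfl⟩
      exact mem_subgroupOf.1 (hC₁ ha))
    ((map_commutator _ _ _).symm.trans (congrArg _ hC₁p))
  have hMC : M ≤ C := inf_le_left.trans (pre_le y K)
  set J := res M
  have hJM : J ≤ M := res_le M
  set O := Cfsg.centralizerPPrimeCore 2 y
  have hOodd : ¬ 2 ∣ Nat.card O := by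
    rw [show O = (Cfsg.pPrimeCore 2 C).map C.subtype from rfl, card_map_of_injective C.subtype_injective]
    exact CfsgLib.Coprime.pPrimeCore_not_dvd Nat.prime_two
  have hcov : ∀ a ∈ M, ∃ b ∈ J, b⁻¹ * a ∈ O := fun a ha => by
    obtain ⟨hac, haK⟩ := mem_pre.1 ha.1
    obtain ⟨b, hb, hbe⟩ := hC₁K.ge haK
    refine ⟨b, hC₁M (mem_map_of_mem _ hb), ?_⟩
    refine (CfsgLib.Walter.Rank.proj_eq_one_iff (mul_mem (inv_mem b.2) hac)).1 ?_
    rw [show (⟨(b : G)⁻¹ * a, _⟩ : C) = b⁻¹ * ⟨a, hac⟩ from rfl, map_mul, map_inv, hbe, inv_mul_cancel]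
  have hVJ : V ≤ J := fun v hv => by
    have hvM : v ∈ M := ⟨hv.1, mem_centralizer_iff.2 fun r hr => h.comm (hRA hr) hv.2⟩
    haveI : (J.subgroupOf M).Normal :=
      (normal_subgroupOf_iff_le_normalizer hJM).2 (CfsgLib.Walter.Rank.res_normalized M)
    have hodd := CfsgLib.Walter.Rank.odd_index_of_cover (CfsgLib.Walter.Rank.res_normalized M) hJM hOodd hcov
    have hv2 : (QuotientGroup.mk' (J.subgroupOf M) ⟨v, hvM⟩) ^ 2 = 1 := by
      rw [← map_pow, show (⟨v, hvM⟩ : M) ^ 2 = 1 from Subtype.ext (by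
        rw [pow_two]; exact h.setting.sq v hv.2), map_one]
    rcases (Nat.dvd_prime Nat.prime_two).1 (orderOf_dvd_of_pow_eq_one hv2) with h2 | h2
    · exact mem_subgroupOf.1 ((QuotientGroup.eq_one_iff _).1 (orderOf_eq_one_iff.1 h2))
    · refine absurd ?_ hodd
      rw [relIndex, index_eq_card, ← h2]
      exact orderOf_dvd_natCard _
  -- the normal closure of `V` in `J`
  set N := closure {z | ∃ a ∈ J, ∃ v ∈ V, a * v * a⁻¹ = z} with hNdef
  have hNJ : N ≤ J := (closure_le _).2 (by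
    rintro _ ⟨a, ha, v, hv, rfl⟩
    exact mul_mem (mul_mem ha (hVJ hv)) (inv_mem ha))
  have hJn : J ≤ normalizer (N : Set G) := fun b hb => mem_normalizer_fintype fun x hx => by
    induction hx using closure_induction with
    | mem z hz =>
      obtain ⟨a, ha, v, hv, rfl⟩ := hz
      exact subset_closure ⟨b * a, mul_mem hb ha, v, hv, by group⟩
    | one => simp
    | mul x z _ _ hx hz =>
      rw [show b * (x * z) * b⁻¹ = (b * x * b⁻¹) * (b * z * b⁻¹) by group]
      exact mul_mem hx hz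
    | inv x _ hx =>
      rw [show b * x⁻¹ * b⁻¹ = (b * x * b⁻¹)⁻¹ by group]
      exact inv_mem hx
  have hNC : N ≤ C := hNJ.trans (hJM.trans hMC)
  set N₁ := (N.subgroupOf C).map (proj y)
  have hN₁K : N₁ ≤ K := by
    rintro _ ⟨a, ha, rfl⟩
    exact (mem_pre_iff a.2).1 (hJM (hNJ (mem_subgroupOf.1 ha))).1
  haveI : (N₁.subgroupOf K).Normal := (normal_subgroupOf_iff_le_normalizer hN₁K).2 fun k hk => by
    obtain ⟨a, ha, rfl⟩ := hC₁K.ge hk
    refine mem_normalizer_fintype ?_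
    rintro _ ⟨b, hb, rfl⟩
    exact ⟨a * b * a⁻¹, (mem_normalizer_iff.1 (hJn (hC₁M (mem_map_of_mem _ ha))) _).1 hb,
      by rw [map_mul, map_mul, map_inv]⟩
  haveI := hm.simple
  have htop : N₁.subgroupOf K = ⊤ := by
    refine ((inferInstance : (N₁.subgroupOf K).Normal).eq_bot_or_eq_top).resolve_left fun hb => ?_
    obtain ⟨v, hv, hv1⟩ := V.bot_or_exists_ne_one.resolve_left fun e => by
      have h4 := hpair.four_le h
      rw [e, Subgroup.card_bot] at h4
      omega
    have hvN : v ∈ N := subset_closure ⟨1, one_mem _, v, hv, by group⟩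
    refine hv1 (h.eq_one_of_proj hv.2 (hNC hvN) ?_)
    exact congrArg Subtype.val ((Subgroup.eq_bot_iff_forall _).1 hb
      ⟨proj y ⟨v, hNC hvN⟩, hN₁K ⟨_, hvN, rfl⟩⟩ ⟨⟨v, hNC hvN⟩, hvN, rfl⟩)
  have hodd := CfsgLib.Walter.Rank.odd_index_of_cover hJn hNJ hOodd fun a ha => by
    obtain ⟨hac, haK⟩ := mem_pre.1 (hJM ha).1
    obtain ⟨b, hb, hbe⟩ : proj y ⟨a, hac⟩ ∈ N₁ := Subgroup.subgroupOf_eq_top.1 htop haK
    refine ⟨b, hb, ?_⟩
    refine (CfsgLib.Walter.Rank.proj_eq_one_iff (mul_mem (inv_mem b.2) hac)).1 ?_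
    rw [show (⟨(b : G)⁻¹ * a, _⟩ : C) = b⁻¹ * ⟨a, hac⟩ from rfl, map_mul, map_inv, hbe, inv_mul_cancel]
  have hNeq := eq_of_odd_relIndex_perfect hJn hNJ (commutator_res M) hodd
  have hJgen : IsGenPerfect A J := by
    refine ⟨commutator_res M, hNeq.ge.trans ((closure_le _).2 ?_)⟩
    rintro _ ⟨a, ha, v, hv, rfl⟩
    exact subset_closure ⟨hNJ (subset_closure ⟨a, ha, v, hv, rfl⟩), v, hv.2, a, rfl⟩
  intro k hk
  obtain ⟨a, ha, rfl⟩ := hC₁K.ge hk
  exact mem_map_of_mem _ (mem_subgroupOf.2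
    (le_resA (hJM.trans inf_le_right) hJgen (hC₁M (mem_map_of_mem _ ha))))

end CfsgLib.Gold.Split
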