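import Cfsg.Agent.Lib.Goldschmidt.Comp.Defs
import Cfsg.Agent.Lib.Walter.Rank.Local

/-!
# The case of an elementary centralizer: the facts about involution centralizers which are used

`img A y` is the image of `A` in the centralizer of `y` modulo its core. A component is either centralized by
this image or is in the list with abelian Sylow `2`-subgroups, one of which lies in the image.
-/

set_option autoImplicit false

namespace CfsgLib.Gold.Split

open Subgroup
open CfsgLib.Walter.Rank (CQ proj pre)

universe u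

variable {G : Type u} [Group G]

/-- The image of `A` in `C(y) / O(C(y))`. -/
def img (A : Subgroup G) (y : G) : Subgroup (CQ y) :=
  (A.subgroupOf (centralizer ({y} : Set G))).map (proj y)

/-- A component met by `B`: simple, in the list, a Sylow `2`-subgroup lies in `B`, and `B` induces elements
of this subgroup on it. -/
structure Met {X : Type u} [Group X] (B K : Subgroup X) : Prop where
  simple : IsSimpleGroup K
  noncomm : ¬ IsMulCommutative K
  cent : CfsgLib.Walter.CentForm K
  abTwo : CfsgLib.Walter.AbTwo K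
  sylow : ∃ R : Sylow 2 K, (R : Subgroup K).map K.subtype = B ⊓ K
  split : ∀ b ∈ B, ∃ v ∈ B ⊓ K, b * v⁻¹ ∈ centralizer (K : Set X)

/-- The facts about one centralizer modulo its core. -/
structure CompFacts {X : Type u} [Group X] (B : Subgroup X) : Prop where
  met : ∀ K : Subgroup X, Cfsg.IsComponent K → ¬ B ≤ centralizer (K : Set X) → Met B K
  closure_centralizes : ∀ K : Subgroup X, Cfsg.IsComponent K → B ≤ centralizer (K : Set X) →
    normalClosure (B : Set X) ≤ centralizer (K : Set X)
  le_layer_sup : B ≤ Cfsg.layer X ⊔ Cfsg.pCore 2 X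

/-- The facts used in the case of an elementary centralizer. -/
structure Facts (S : Sylow 2 G) (A : Subgroup G) : Prop where
  setting : Setting S A
  eight : 8 ≤ Nat.card A
  gold : CfsgLib.Gold.CompFacts A
  comp : ∀ y ∈ A, y ≠ 1 → CompFacts (img A y)

/-- The pair of a component which is met by `A`. -/
def IsMetPairAt (A : Subgroup G) (y : G) (R V : Subgroup G) : Prop :=
  y ∈ A ∧ y ≠ 1 ∧ ∃ K : Subgroup (CQ y), Cfsg.IsComponent K ∧ ¬ img A y ≤ centralizer (K : Set (CQ y)) ∧
    V = pre y K ⊓ A ∧ R = pre y (centralizer (K : Set (CQ y))) ⊓ A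

/-- The blocks: at least three pairs, each `V` lying in the other `R`s, permuted by `N(A)` and refining
every pair. -/
structure Frame (A : Subgroup G) where
  B : Set (Subgroup G × Subgroup G)
  pair : ∀ b ∈ B, ∃ y, IsMetPairAt A y b.1 b.2
  exists_three : ∃ a ∈ B, ∃ b ∈ B, ∃ c ∈ B, a ≠ b ∧ a ≠ c ∧ b ≠ c
  cross : ∀ b ∈ B, ∀ c ∈ B, b ≠ c → c.2 ≤ b.1
  invariant : ∀ n ∈ normalizer (A : Set G), ∀ b ∈ B,
    (b.1.map (MulAut.conj n).toMonoidHom, b.2.map (MulAut.conj n).toMonoidHom) ∈ B
  cover : ∀ (y : G) (R V : Subgroup G), IsMetPairAt A y R V → ∃ b ∈ B, V ≤ b.2 ∧ b.1 ≤ R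
  sixteen : ∀ b ∈ B, 16 ≤ Nat.card b.1

end CfsgLib.Gold.Split
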