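import Cfsg.Agent.Lib.Goldschmidt.Split.Disjoint
import Cfsg.Agent.Lib.Goldschmidt.Split.Facts

/-!
# The case of an elementary centralizer: the blocks

The couples `(u, w)` of a disjoint orbit with `w.1` not inside `u.2` form one orbit of odd length under
`N(A)`, so it is not self-paired and the couples with `w.1 ≤ u.2` are exactly the reversed ones; an element of
`N(A)` interchanging two members contradicts this. So the left sides of an orbit meet, and the orbit of a
maximal pair is a frame.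
-/

set_option autoImplicit false
set_option linter.unusedSectionVars false
set_option linter.style.haveILetI false

namespace CfsgLib.Gold.Split

open Subgroup
open CfsgLib.Walter.Rank.Blocks (cj cj_mul cj_one cj_inv_cj orbit mem_orbit_self orbit_cj exists_ne_one)

universe u

variable {G : Type u} [Group G] [Finite G] {S : Sylow 2 G} {A : Subgroup G}

/-- An element of `N(A)` interchanging two elements of `A`. -/
theorem exists_swap (h : Setting S A) (hmove : ∃ s ∈ (S : Subgroup G), ∃ a ∈ A, ¬ Commute s a) :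
    ∃ g ∈ normalizer (A : Set G), ∃ x ∈ A, g * x * g⁻¹ ≠ x ∧ g * (g * x * g⁻¹) * g⁻¹ = x := by
  classical
  obtain ⟨s, hs, a, ha, hsa⟩ := hmove
  obtain ⟨k, hk⟩ := S.2 ⟨s, hs⟩
  have hk' : s ^ 2 ^ k = 1 := by simpa using congrArg Subtype.val hk
  have hex : ∃ i : ℕ, s ^ 2 ^ i ∈ centralizer (A : Set G) := ⟨k, hk' ▸ one_mem _⟩
  obtain ⟨j, hj⟩ : ∃ j, Nat.find hex = j + 1 := by
    rcases Nat.eq_zero_or_pos (Nat.find hex) with e | e
    · refine absurd ?_ hsa
      have h1 := Nat.find_spec hex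
      rw [e, pow_zero, pow_one] at h1
      exact (mem_centralizer_iff.1 h1 a ha).symm
    · exact ⟨Nat.find hex - 1, by omega⟩
  have hnc : s ^ 2 ^ j ∉ centralizer (A : Set G) := Nat.find_min hex (by omega)
  have hc : s ^ 2 ^ j * s ^ 2 ^ j ∈ centralizer (A : Set G) := by
    have := Nat.find_spec hex
    rwa [hj, pow_succ, mul_two, pow_add] at this
  set g := s ^ 2 ^ j
  obtain ⟨x, hx, hne⟩ : ∃ x ∈ A, g * x * g⁻¹ ≠ x := by
    by_contra hno
    push Not at hno
    refine hnc (mem_centralizer_iff.2 fun x hx => ?_)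
    have := hno x hx
    rw [mul_inv_eq_iff_eq_mul] at this
    exact this.symm
  refine ⟨g, pow_mem (h.sylow_le_normalizer hs) _, x, hx, hne, ?_⟩
  rw [show g * (g * x * g⁻¹) * g⁻¹ = g * g * x * (g * g)⁻¹ by group, ← mem_centralizer_iff.1 hc x hx,
    mul_inv_cancel_right]

variable (h : Setting S A) (hP : PairFacts A)
include h hP

/-- No orbit of pairs has pairwise disjoint left sides. -/
theorem false_of_disjoint (hmove : ∃ s ∈ (S : Subgroup G), ∃ a ∈ A, ¬ Commute s a)
    {O : Set (Subgroup G × Subgroup G)} (hO : Disj A O) {p : Subgroup G × Subgroup G} (hp : p ∈ O) :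
    False := by
  classical
  haveI := Fintype.ofFinite O
  set N := normalizer (A : Set G)
  let Q1 : O → O → Prop := fun u w =>
    (w : Subgroup G × Subgroup G).1 ≤ (u : Subgroup G × Subgroup G).2
  let Q3 : O → O → Prop := fun u w => (u : Subgroup G × Subgroup G) ≠ w ∧ ¬ Q1 u w
  let act : ∀ g ∈ N, O → O := fun g hg u => ⟨cj g u, hO.conj u u.2 g hg⟩
  have hQ1 : ∀ g (hg : g ∈ N) u w, Q1 (act g hg u) (act g hg w) ↔ Q1 u w := fun g hg u w =>
    rel_cj g (u : Subgroup G × Subgroup G) w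
  have hQ3 : ∀ g (hg : g ∈ N) u w, Q3 (act g hg u) (act g hg w) ↔ Q3 u w := fun g hg u w =>
    and_congr (not_congr (cj_injective g).eq_iff) (not_congr (hQ1 g hg u w))
  have hne1 : ∀ u w, Q1 u w → (u : Subgroup G × Subgroup G) ≠ w := fun u w hq e => by
    have h1 : (u : Subgroup G × Subgroup G).1 ≤ (u : Subgroup G × Subgroup G).2 := by
      conv_lhs => rw [e]
      exact hq
    exact pair_left_ne_bot hP (hO.pair u u.2)
      (le_bot_iff.1 ((le_inf le_rfl h1).trans (pair_inf hP (hO.pair u u.2)).le))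
  -- sizes
  set k := Nat.card p.1 - 1 with hk
  set L := Nat.card p.2 - 1 with hL
  have hcard := fun (u : O) => card_left_eq hO hp u.2
  have hk0 : 0 < k := by
    haveI : Nontrivial p.1 := nontrivial_iff_ne_bot p.1 |>.2 (pair_left_ne_bot hP (hO.pair p hp))
    have := Finite.one_lt_card_iff_nontrivial.2 ‹Nontrivial p.1›
    omega
  have hL0 : 0 < L := by have := pair_four hP (hO.pair p hp); omega
  have hthree : ∀ u : O, Nat.card {w : O // Q3 u w} = L := by
    intro u
    obtain ⟨q, hq, hqu, hle⟩ := exists_rel_three h hP hO u.2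
    rw [hL, ← (hcard u).2, ← card_three h hP hO u.2 hq hqu hle]
  have hone : ∀ u : O, Nat.card {w : O // Q1 u w} * k ≤ L := fun u => by
    have := card_one_le hO u.2
    rwa [(hcard u).1, (hcard u).2] at this
  have hcov : ∀ x ∈ A, ∃ w : O, x ∈ (w : Subgroup G × Subgroup G).1 := fun x hx => by
    obtain ⟨q₁, h1, h1le⟩ := exists_rel_one h hP hO hp
    obtain ⟨q₃, h3, h3p, h3le⟩ := exists_rel_three h hP hO hp
    obtain ⟨w, hw, hxw⟩ := exists_mem_of_both h hP hO hp h1 h1le h3 h3p h3le hx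
    exact ⟨⟨w, hw⟩, hxw⟩
  -- the number of members is odd
  have hAodd : Nat.card A - 1 = Fintype.card O * k := by
    let f : (Σ w : O, {x : (w : Subgroup G × Subgroup G).1 // x ≠ 1}) → {x : A // x ≠ 1} := fun z =>
      ⟨⟨(z.2.1 : G), (pair_le (hO.pair _ z.1.2)).1 z.2.1.2⟩, fun e =>
        z.2.2 (Subtype.ext (show (z.2.1 : G) = 1 from congrArg Subtype.val e))⟩
    have hf : Function.Bijective f := by
      refine ⟨?_, fun x => ?_⟩
      · rintro ⟨⟨w, hw⟩, ⟨⟨x, hx⟩, hx1⟩⟩ ⟨⟨w', hw'⟩, ⟨⟨x', hx'⟩, hx1'⟩⟩ e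
        have e' : x = x' := congrArg (fun v : {v : A // v ≠ 1} => ((v.1 : A) : G)) e
        subst e'
        obtain rfl := hO.eq w hw w' hw' x hx hx' (fun e => hx1 (Subtype.ext e))
        rfl
      · obtain ⟨w, hw⟩ := hcov x.1 x.1.2
        exact ⟨⟨w, ⟨⟨(x.1 : G), hw⟩, fun e => x.2 (Subtype.ext
          (show (x.1 : G) = 1 from congrArg Subtype.val e))⟩⟩, rfl⟩
    have hc := Nat.card_eq_of_bijective f hf
    rw [Nat.card_sigma, card_ne_one_eq] at hc
    have e : ∀ w : O, Nat.card {x : (w : Subgroup G × Subgroup G).1 // x ≠ 1} = k := fun w => by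
      rw [card_ne_one_eq, (hcard w).1]
    simpa [e] using hc.symm
  have hm : Odd (Fintype.card O) := by
    obtain ⟨a, ha, ha1⟩ := A.bot_or_exists_ne_one.resolve_left h.ne_bot
    have h2 : 2 ∣ Nat.card A := h.orderOf_eq ha ha1 ▸ Subgroup.orderOf_dvd_natCard A ha
    have h4 := h.four_le
    have hodd : Odd (Fintype.card O * k) := by
      rw [← hAodd]
      exact ⟨Nat.card A / 2 - 1, by omega⟩
    exact (Nat.odd_mul.1 hodd).1
  -- the couples
  let C1 := Σ u : O, {w : O // Q1 u w}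
  let C3 := Σ u : O, {w : O // Q3 u w}
  have hC3 : Nat.card C3 = Fintype.card O * L := by
    rw [Nat.card_sigma, Finset.sum_congr rfl (fun u _ => hthree u), Finset.sum_const, Finset.card_univ, smul_eq_mul]
  have hC1 : Nat.card C1 * k ≤ Fintype.card O * L := by
    rw [Nat.card_sigma, Finset.sum_mul]
    refine (Finset.sum_le_sum fun u _ => hone u).trans (le_of_eq ?_)
    simp
  have hLodd : Odd L := by
    obtain ⟨v, hv, hv1⟩ := exists_ne_one (pair_ne (hO.pair p hp)).2
    have h2 : 2 ∣ Nat.card p.2 :=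
      h.orderOf_eq ((pair_le (hO.pair p hp)).2 hv) hv1 ▸ Subgroup.orderOf_dvd_natCard p.2 hv
    have := pair_four hP (hO.pair p hp)
    exact ⟨Nat.card p.2 / 2 - 1, by omega⟩
  have hanti : ∀ u w, Q3 u w → ¬ Q3 w u := by
    by_contra hno
    push Not at hno
    obtain ⟨u₀, w₀, h₀, h₀'⟩ := hno
    have hsym : ∀ u w, Q3 u w → Q3 w u := by
      intro u w huw
      obtain ⟨m, hm, em⟩ := hO.trans u₀ u₀.2 u u.2
      have em' : act m hm u₀ = u := Subtype.ext em
      have h1 := (hQ3 m hm u₀ w₀).2 h₀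
      rw [em'] at h1
      obtain ⟨g, hg, gu, gw⟩ := exists_move h hP hO u.2 (act m hm w₀).2 (Ne.symm h1.1) h1.2 w.2
        (Ne.symm huw.1) huw.2
      have e1 : act g hg (act m hm u₀) = u := by rw [em']; exact Subtype.ext gu
      have e2 : act g hg (act m hm w₀) = w := Subtype.ext gw
      have := (hQ3 g hg _ _).2 ((hQ3 m hm _ _).2 h₀')
      rwa [e1, e2] at this
    have := even_card_of_involution (fun z : C3 => ⟨z.2.1, z.1, hsym _ _ z.2.2⟩) (fun _ => rfl)
      (fun z e => z.2.2.1 (congrArg (fun z : C3 => ((z.1 : O) : Subgroup G × Subgroup G)) e).symm)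
    rw [hC3] at this
    exact Nat.not_even_iff_odd.2 (hm.mul hLodd) this
  let f : C3 → C1 := fun z => ⟨z.2.1, z.1, by
    by_contra hq
    exact hanti _ _ z.2.2 ⟨Ne.symm z.2.2.1, hq⟩⟩
  have hf : Function.Injective f := by
    rintro ⟨u, w, hw⟩ ⟨u', w', hw'⟩ e
    obtain rfl : w = w' := congrArg (fun z : C1 => z.1) e
    obtain rfl : u = u' := congrArg (fun z : C1 => (z.2 : O)) e
    rfl
  have hle := Nat.card_le_card_of_injective f hf
  rw [hC3] at hle
  have hk1 : k = 1 := by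
    have hmL : 0 < Fintype.card O * L := Nat.mul_pos hm.pos hL0
    have := Nat.le_of_mul_le_mul_left (((Nat.mul_le_mul_right k hle).trans hC1).trans_eq (mul_one _).symm) hmL
    omega
  have hsurj : Function.Surjective f := by
    refine ((Nat.bijective_iff_injective_and_card f).2 ⟨hf, le_antisymm ?_ ?_⟩).2
    · exact hC3 ▸ hle
    · rw [hk1, mul_one] at hC1
      exact hC3 ▸ hC1
  have hrev : ∀ u w, Q1 u w → Q3 w u := by
    intro u w huw
    obtain ⟨⟨u', w', hw'⟩, e⟩ := hsurj ⟨u, w, huw⟩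
    obtain rfl : w' = u := congrArg (fun z : C1 => z.1) e
    obtain rfl : u' = w := congrArg (fun z : C1 => (z.2 : O)) e
    exact hw'
  -- the interchange
  obtain ⟨g, hg, x, hx, hne, hgg⟩ := exists_swap h hmove
  have hx1 : x ≠ 1 := fun e => hne (by rw [e]; group)
  have hx1' : g * x * g⁻¹ ≠ 1 := fun e => hx1 (by
    rw [show x = g⁻¹ * (g * x * g⁻¹) * g by group, e]; group)
  obtain ⟨u, hu⟩ := hcov x hx
  obtain ⟨w, hw⟩ := hcov (g * x * g⁻¹) ((mem_normalizer_iff.1 hg x).1 hx)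
  have huw : (u : Subgroup G × Subgroup G) ≠ w := fun e => by
    haveI := Fintype.ofFinite (u : Subgroup G × Subgroup G).1
    have h2 : Nat.card {z : (u : Subgroup G × Subgroup G).1 // z ≠ 1} = 1 := by
      rw [card_ne_one_eq, (hcard u).1]; exact hk1
    haveI := (Nat.card_eq_one_iff_unique.1 h2).1
    have := Subsingleton.elim (α := {z : (u : Subgroup G × Subgroup G).1 // z ≠ 1})
      ⟨⟨x, hu⟩, fun e => hx1 (congrArg Subtype.val e)⟩
      ⟨⟨g * x * g⁻¹, e ▸ hw⟩, fun e => hx1' (congrArg Subtype.val e)⟩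
    exact hne (congrArg (fun z => ((z.1 : (u : Subgroup G × Subgroup G).1) : G)) this).symm
  have e1 : act g hg u = w := Subtype.ext (hO.eq _ (hO.conj u u.2 g hg) w w.2 _ (mem_cj_left hu) hw hx1')
  have e2 : act g hg w = u :=
    Subtype.ext (hO.eq _ (hO.conj w w.2 g hg) u u.2 x (hgg ▸ mem_cj_left hw) hu hx1)
  by_cases hq : Q1 u w
  · have h1 := (hQ1 g hg u w).2 hq
    rw [e1, e2] at h1
    exact (hrev u w hq).2 h1
  · have h1 : Q3 u w := ⟨huw, hq⟩
    have h2 := (hQ3 g hg u w).2 h1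
    rw [e1, e2] at h2
    exact hanti _ _ h1 h2

/-- The left sides of an orbit of maximal pairs are large. -/
theorem card_right_lt (hmove : ∃ s ∈ (S : Subgroup G), ∃ a ∈ A, ¬ Commute s a)
    {p : Subgroup G × Subgroup G} (hp : IsMaxPair A p) : Nat.card p.2 < Nat.card p.1 := by
  by_contra hle
  rw [not_lt] at hle
  refine false_of_disjoint h hP hmove (O := orbit A p) ⟨fun q hq => (orbit_max hP hp hq).1,
    fun q hq n hn => orbit_cj hq hn, ?_, ?_, ?_⟩ (mem_orbit_self A p)
  · rintro _ ⟨m, hm, rfl⟩ _ ⟨n, hn, rfl⟩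
    exact ⟨n * m⁻¹, mul_mem hn (inv_mem hm), by rw [← cj_mul, inv_mul_cancel_right]⟩
  · intro a ha b hb x hxa hxb hx1
    rcases eq_or_cross h hP (orbit_max hP hp ha) (orbit_max hP hp hb)
      (fun e => hx1 (mem_bot.1 (e ▸ mem_inf.2 ⟨hxa, hxb⟩))) with e | ⟨e, -⟩
    · exact e.symm
    · exfalso
      have hc : Nat.card a.1 ≤ Nat.card b.2 := by
        obtain ⟨m, -, rfl⟩ := ha
        obtain ⟨n, -, rfl⟩ := hb
        show Nat.card (p.1.map _ : Subgroup G) ≤ Nat.card (p.2.map _ : Subgroup G)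
        rw [card_map_of_injective (MulAut.conj m).injective, card_map_of_injective (MulAut.conj n).injective]
        exact hle
      have e' := Subgroup.eq_of_le_of_card_ge e hc
      exact hx1 (mem_bot.1 (pair_inf hP (orbit_max hP hp hb).1 ▸ mem_inf.2 ⟨hxb, e' ▸ hxa⟩))
  · intro q hq
    obtain ⟨a, ha, b, hb, h1, h2, h3⟩ := orbit_three h hP (orbit_max hP hp hq)
    obtain ⟨m, hm, rfl⟩ := hq
    have hsub : ∀ c ∈ orbit A (cj m p), c ∈ orbit A p := by
      rintro _ ⟨n, hn, rfl⟩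
      exact orbit_cj ⟨m, hm, rfl⟩ hn
    exact ⟨a, hsub a ha, b, hsub b hb, h1, h2, h3⟩

theorem orbit_cross (hmove : ∃ s ∈ (S : Subgroup G), ∃ a ∈ A, ¬ Commute s a)
    {p a b : Subgroup G × Subgroup G} (hp : IsMaxPair A p) (ha : a ∈ orbit A p) (hb : b ∈ orbit A p)
    (hne : b ≠ a) : b.2 ≤ a.1 := by
  have ham := orbit_max hP hp ha
  have hbm := orbit_max hP hp hb
  refine ((eq_or_cross h hP ham hbm fun hbot => ?_).resolve_left hne).1
  have h1 := card_right_lt h hP hmove ham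
  have h2 := left_le_of_disjoint h hP ham.1 hbm.1 hbot
  obtain ⟨m, -, rfl⟩ := ha
  obtain ⟨n, -, rfl⟩ := hb
  have e : ∀ g : G, Nat.card (cj g p).1 = Nat.card p.1 := fun g =>
    card_map_of_injective (MulAut.conj g).injective
  rw [e] at h1 h2
  omega

/-- The blocks exist. -/
theorem exists_frame (hmove : ∃ s ∈ (S : Subgroup G), ∃ a ∈ A, ¬ Commute s a) (hC : CfsgLib.Gold.CompFacts A)
    (hex : ∃ (y : G) (R V : Subgroup G), IsPairAt A y R V) : Nonempty (Frame A) := by
  obtain ⟨y₁, R₁, V₁, hp₁⟩ := hex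
  obtain ⟨p, hp, -, -⟩ := exists_max hP (p := (R₁, V₁)) ⟨y₁, hp₁⟩
  have hcross : ∀ {p}, IsMaxPair A p → ∀ a ∈ orbit A p, ∀ b ∈ orbit A p, b ≠ a → b.2 ≤ a.1 :=
    fun hp a ha b hb hne => orbit_cross h hP hmove hp ha hb hne
  set B := orbit A p with hB
  have hbm : ∀ b ∈ B, IsMaxPair A b := fun b hb => orbit_max hP hp hb
  obtain ⟨a, ha, c, hc, hpa, hpc, hac⟩ := orbit_three h hP hp
  refine ⟨{
    B := B
    pair := fun b hb => ?_
    exists_three := ⟨p, mem_orbit_self _ _, a, ha, c, hc, hpa, hpc, hac⟩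
    cross := fun b hb d hd hne => orbit_cross h hP hmove hp hb hd (Ne.symm hne)
    invariant := fun n hn b hb => orbit_cj hb hn
    cover := ?_
    sixteen := fun b hb => le_trans (le_trans (by norm_num)
      (Nat.mul_le_mul (pair_four hP (hbm b hb).1) (pair_four hP (hbm b hb).1)))
      (sq_card_le h hP (hbm b hb) (hcross (hbm b hb))) }⟩
  · obtain ⟨y, hy⟩ := (hbm b hb).1
    obtain ⟨K, hK, e1, e2⟩ := hC.exists_met _ _ _ hy
    exact ⟨y, hy.1.1, fun e => by simpa [e] using hy.1.2.1, K, hK.1, hK.2, e1, e2⟩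
  · rintro y R V ⟨hy, hy1, K, hK, hKm, rfl, rfl⟩
    obtain ⟨q, hq, hV, hR⟩ := exists_max hP
      (p := (CfsgLib.Walter.Rank.pre y (centralizer (K : Set (CfsgLib.Walter.Rank.CQ y))) ⊓ A,
        CfsgLib.Walter.Rank.pre y K ⊓ A)) ⟨y, hC.isPairAt y hy (h.orderOf_eq hy hy1) K ⟨hK, hKm⟩⟩
    by_cases hqB : q ∈ B
    · exact ⟨q, hqB, hV, hR⟩
    exfalso
    have hq2 : ∀ b ∈ B, q.2 ≤ b.1 := by
      intro b hb
      refine (eq_or_cross h hP (hbm b hb) hq fun hbot => ?_).resolve_left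
        (fun e => hqB (e ▸ hb)) |>.1
      have h1 := left_le_of_disjoint h hP (hbm b hb).1 hq.1 hbot
      have h2 := left_le_of_disjoint h hP hq.1 (hbm b hb).1 (by rw [inf_comm]; exact hbot)
      have h3 := card_right_lt h hP hmove (hbm b hb)
      have h4 := card_right_lt h hP hmove hq
      omega
    have hinv : ∀ n ∈ normalizer (A : Set G), ∀ w ∈ (⨅ b : B, (b : Subgroup G × Subgroup G).1),
        n * w * n⁻¹ ∈ ⨅ b : B, (b : Subgroup G × Subgroup G).1 := by
      intro n hn w hw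
      rw [Subgroup.mem_iInf] at hw ⊢
      intro b
      have h1 := mem_cj_left (g := n) (hw ⟨cj n⁻¹ b.1, orbit_cj b.2 (inv_mem hn)⟩)
      rwa [← cj_mul, mul_inv_cancel, cj_one] at h1
    rcases h.irreducible ((iInf_le _ (⟨p, mem_orbit_self _ _⟩ : B)).trans (pair_le hp.1).1) hinv with e | e
    · exact (pair_ne hq.1).2 (le_bot_iff.1 (e ▸ le_iInf fun b : B => hq2 b.1 b.2))
    · exact (pair_ne hp.1).1 (le_antisymm (pair_le hp.1).1
        (e ▸ iInf_le _ (⟨p, mem_orbit_self _ _⟩ : B)))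

end CfsgLib.Gold.Split
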