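import Cfsg.Agent.Lib.Goldschmidt.Split.Basic
import Cfsg.Agent.Lib.Goldschmidt.Phi.Main
import Cfsg.Agent.Lib.Coprime.Hyperplanes

/-!
# The case of an elementary centralizer: a criterion for the centralizers of involutions

A subgroup containing `N(A)`, the centralizers of the hyperplanes of `A` and `resA A C(R)` for the met pairs
contains every `C(y)`, so it is the whole group.
-/

set_option autoImplicit false
set_option linter.style.haveILetI false

namespace CfsgLib.Gold.Split

open Subgroup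
open CfsgLib.Walter.Rank (CQ proj pre mem_pre mem_pre_iff pre_le proj_eq_one_iff)

universe u

variable {G : Type u} [Group G] [Finite G] {S : Sylow 2 G} {A : Subgroup G}

theorem le_normalizer_core (h : Facts S A) {y : G} (hy : y ∈ A) :
    A ≤ normalizer (Cfsg.centralizerPPrimeCore 2 y : Set G) := fun s hs =>
  mem_normalizer_fintype fun o ho => by
    obtain ⟨o', ho', rfl⟩ := ho
    exact ⟨⟨s, h.mem_centralizer hy hs⟩ * o' * ⟨s, h.mem_centralizer hy hs⟩⁻¹,
      Subgroup.Normal.conj_mem inferInstance o' ho' _, rfl⟩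

theorem centralizer_le (h : Facts S A) {M : Subgroup G} {y : G} (hy : y ∈ A) (hy1 : y ≠ 1)
    (hN : normalizer (A : Set G) ≤ M)
    (hU : ∀ U : Subgroup G, U ≤ A → U.relIndex A = 2 → centralizer (U : Set G) ≤ M)
    (hP : ∀ (x : G) (R V : Subgroup G), IsMetPairAt A x R V → resA A (centralizer (R : Set G)) ≤ M) :
    centralizer ({y} : Set G) ≤ M := by
  haveI := Fact.mk Nat.prime_two
  have hOM : Cfsg.centralizerPPrimeCore 2 y ≤ M :=
    CfsgLib.Coprime.le_of_hyperplanes (h.elementary le_rfl) (le_trans (by norm_num) h.eight)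
      (Phi.core_odd y) (le_normalizer_core h hy) fun U hU1 hU2 => inf_le_right.trans (hU U hU1 hU2)
  refine Phi.centralizer_le h.setting h.gold hy hy1 hOM (fun K hK => ?_) (inf_le_right.trans hN)
  intro x hx
  obtain ⟨hxC, hxK⟩ := mem_pre.1 hx
  obtain ⟨r, hr, hre⟩ := le_map_resA h hy hy1 hK.1 hK.2 hxK
  have h1 : (r : G) ∈ M := hP y _ _ ⟨hy, hy1, K, hK.1, hK.2, rfl, rfl⟩ (mem_subgroupOf.1 hr)
  have hc : (r : G)⁻¹ * x ∈ centralizer ({y} : Set G) := mul_mem (inv_mem r.2) hxC
  have h2 : (r : G)⁻¹ * x ∈ M := hOM ((proj_eq_one_iff hc).1 (by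
    rw [show (⟨(r : G)⁻¹ * x, hc⟩ : centralizer ({y} : Set G)) = r⁻¹ * ⟨x, hxC⟩ from rfl, map_mul, map_inv, hre,
      inv_mul_cancel]))
  simpa using mul_mem h1 h2

theorem eq_top_of_local (h : Facts S A) {M : Subgroup G} (hN : normalizer (A : Set G) ≤ M)
    (hU : ∀ U : Subgroup G, U ≤ A → U.relIndex A = 2 → centralizer (U : Set G) ≤ M)
    (hP : ∀ (x : G) (R V : Subgroup G), IsMetPairAt A x R V → resA A (centralizer (R : Set G)) ≤ M) :
    M = ⊤ :=
  h.setting.eq_top_of_centralizers fun _ ha ha1 => centralizer_le h ha ha1 hN hU hP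

end CfsgLib.Gold.Split
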