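import Cfsg.Agent.Lib.Goldschmidt.Split.Adapter
import Cfsg.Agent.Lib.Goldschmidt.Split.Blocks

/-!
# The case of an elementary centralizer, given the two kills
-/

set_option autoImplicit false

namespace CfsgLib.Gold.Split

universe u

/-- The kill with a frame of blocks. -/
def FrameKillStmt : Prop :=
  ∀ (G : Type u) [Group G] [Finite G] (S : Sylow 2 G) (A : Subgroup G), Facts S A → Frame A → False

/-- The kill without met components. -/
def NoPairKillStmt : Prop :=
  ∀ (G : Type u) [Group G] [Finite G] (S : Sylow 2 G) (A : Subgroup G), Facts S A →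
    (∀ (y : G) (R V : Subgroup G), ¬ IsMetPairAt A y R V) → False

/-- The case of an elementary centralizer, given the obligations. -/
theorem caseSplitStmt_of (hC : CompFactsStmt.{u}) (hP : PairFactsStmt.{u}) (hW : CfsgLib.Walter.Classified.{u})
    (hframe : FrameKillStmt.{u}) (hnone : NoPairKillStmt.{u}) : CaseSplitStmt.{u} := by
  intro G _ _ S A h h8 hU hmove
  have hF := facts_of h h8 hU (hC G S A h) hW
  by_cases hex : ∃ (y : G) (R V : Subgroup G), IsPairAt A y R V
  · obtain ⟨F⟩ := exists_frame h (hP G S A h) hmove (hC G S A h) hex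
    exact hframe G S A hF F
  · refine hnone G S A hF fun y R V hp => hex ?_
    obtain ⟨hy, hy1, K, hK, hKm, rfl, rfl⟩ := hp
    exact ⟨y, _, _, (hC G S A h).isPairAt y hy (h.orderOf_eq hy hy1) K ⟨hK, hKm⟩⟩

end CfsgLib.Gold.Split
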