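import Cfsg.Agent.Lib.Goldschmidt.Split.Pairs

/-!
# The case of an elementary centralizer: an orbit of pairs with disjoint left sides is impossible

For `q ≠ p` either the left side of `q` lies in the right side of `p`, or `q` is one of the conjugates under
the torus of `p` whose left sides project onto that of `p`. Counting ordered couples of members gives the
contradiction with an element of `N(A)` of order two on `A`.
-/

set_option autoImplicit false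
set_option linter.unusedSectionVars false
set_option linter.style.haveILetI false

namespace CfsgLib.Gold.Split

open Subgroup
open CfsgLib.Walter.Rank.Blocks (cj cj_mul cj_one cj_inv_cj orbit mem_orbit_self orbit_cj exists_ne_one)

universe u

variable {G : Type u} [Group G] [Finite G] {S : Sylow 2 G} {A : Subgroup G}

/-- An orbit of pairs with pairwise disjoint left sides. -/
structure Disj (A : Subgroup G) (O : Set (Subgroup G × Subgroup G)) : Prop where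
  pair : ∀ q ∈ O, IsPair A q.1 q.2
  conj : ∀ q ∈ O, ∀ n ∈ normalizer (A : Set G), cj n q ∈ O
  trans : ∀ a ∈ O, ∀ b ∈ O, ∃ n ∈ normalizer (A : Set G), cj n a = b
  eq : ∀ a ∈ O, ∀ b ∈ O, ∀ x ∈ a.1, x ∈ b.1 → x ≠ 1 → a = b
  three : ∀ p ∈ O, ∃ a ∈ O, ∃ b ∈ O, p ≠ a ∧ p ≠ b ∧ a ≠ b

theorem mem_cj_left {g : G} {q : Subgroup G × Subgroup G} {x : G} (hx : x ∈ q.1) :
    g * x * g⁻¹ ∈ (cj g q).1 :=
  mem_map_of_mem (MulAut.conj g).toMonoidHom hx

theorem mem_cj_right {g : G} {q : Subgroup G × Subgroup G} {x : G} (hx : x ∈ q.2) :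
    g * x * g⁻¹ ∈ (cj g q).2 :=
  mem_map_of_mem (MulAut.conj g).toMonoidHom hx

theorem rel_cj (g : G) (p q : Subgroup G × Subgroup G) :
    (cj g q).1 ≤ (cj g p).2 ↔ q.1 ≤ p.2 :=
  map_le_map_iff_of_injective (MulAut.conj g).injective

theorem cj_injective (g : G) : Function.Injective (cj g) := fun p q e => by
  have := congrArg (cj g⁻¹) e
  rwa [cj_inv_cj, cj_inv_cj] at this

theorem card_ne_one_eq {H : Type u} [Group H] (P : Subgroup H) [Finite P] :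
    Nat.card {x : P // x ≠ 1} = Nat.card P - 1 := by
  haveI := Fintype.ofFinite P
  classical
  rw [Nat.card_eq_fintype_card, Fintype.card_subtype_compl, Fintype.card_subtype_eq, Nat.card_eq_fintype_card]

/-- A fixed point free involution of a finite type. -/
theorem even_card_of_involution {α : Type u} [Finite α] (f : α → α) (h2 : ∀ x, f (f x) = x)
    (h1 : ∀ x, f x ≠ x) : Even (Nat.card α) := by
  haveI := Fintype.ofFinite α
  have h : (∑ _x : α, (1 : ZMod 2)) = 0 := Finset.sum_involution (fun x _ => f x)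
    (fun _ _ => CharTwo.add_self_eq_zero 1) (fun x _ _ => h1 x) (fun _ _ => Finset.mem_univ _) (fun x _ => h2 x)
  rw [Finset.sum_const, Finset.card_univ, nsmul_one, ZMod.natCast_eq_zero_iff_even] at h
  rwa [Nat.card_eq_fintype_card]

variable (h : Setting S A) (hP : PairFacts A)
include h hP

/-- The torus of a pair. -/
theorem exists_torus {p : Subgroup G × Subgroup G} (hp : IsPair A p.1 p.2) :
    ∃ T : G → Prop,
      (∀ g, T g → g ∈ normalizer (A : Set G) ∧ cj g p = p ∧ (∀ r ∈ p.1, g * r * g⁻¹ = r) ∧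
        ∀ v ∈ p.2, g * v * g⁻¹ ∈ p.2) ∧
      (∀ v ∈ p.2, v ≠ 1 → ∀ w ∈ p.2, w ≠ 1 → ∃ g, T g ∧ g * v * g⁻¹ = w) ∧
      ∀ g, T g → ∀ v ∈ p.2, v ≠ 1 → g * v * g⁻¹ = v → ∀ w ∈ p.2, g * w * g⁻¹ = w := by
  obtain ⟨y, hy⟩ := hp
  obtain ⟨n, hn, hnR, hnV, htr⟩ := hP.torus y _ _ hy
  have hR : ∀ i : ℕ, ∀ r ∈ p.1, n ^ i * r * (n ^ i)⁻¹ = r := fun i r hr => by
    induction i with
    | zero => simp
    | succ i ih =>
      rw [pow_succ', show n * n ^ i * r * (n * n ^ i)⁻¹ = n * (n ^ i * r * (n ^ i)⁻¹) * n⁻¹ by group, ih,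
        hnR r hr]
  have hV : ∀ i : ℕ, ∀ v ∈ p.2, n ^ i * v * (n ^ i)⁻¹ ∈ p.2 := fun i v hv => by
    induction i with
    | zero => simpa using hv
    | succ i ih =>
      rw [pow_succ', show n * n ^ i * v * (n * n ^ i)⁻¹ = n * (n ^ i * v * (n ^ i)⁻¹) * n⁻¹ by group]
      exact hnV _ ih
  refine ⟨fun g => ∃ i : ℕ, g = n ^ i, ?_, fun v hv hv1 w hw hw1 => ?_, ?_⟩
  · rintro _ ⟨i, rfl⟩
    refine ⟨pow_mem hn i, Prod.ext ?_ ?_, hR i, hV i⟩
    · refine Subgroup.eq_of_le_of_card_ge ?_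
        (Nat.card_congr ((MulAut.conj (n ^ i)).subgroupMap p.1).toEquiv).le
      rintro _ ⟨r, hr, rfl⟩
      show n ^ i * r * (n ^ i)⁻¹ ∈ p.1
      rwa [hR i r hr]
    · refine Subgroup.eq_of_le_of_card_ge ?_
        (Nat.card_congr ((MulAut.conj (n ^ i)).subgroupMap p.2).toEquiv).le
      rintro _ ⟨v, hv, rfl⟩
      exact hV i v hv
  · obtain ⟨i, hi⟩ := htr v hv hv1 w hw hw1
    exact ⟨_, ⟨i, rfl⟩, hi⟩
  · rintro _ ⟨i, rfl⟩ v hv hv1 e w hw
    by_cases hw1 : w = 1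
    · rw [hw1]; group
    obtain ⟨j, rfl⟩ := htr v hv hv1 w hw hw1
    rw [show n ^ i * (n ^ j * v * (n ^ j)⁻¹) * (n ^ i)⁻¹ = (n ^ i * n ^ j) * v * (n ^ i * n ^ j)⁻¹ by group,
      ← pow_add, add_comm, pow_add, show n ^ j * n ^ i * v * (n ^ j * n ^ i)⁻¹ =
      n ^ j * (n ^ i * v * (n ^ i)⁻¹) * (n ^ j)⁻¹ by group, e]

variable {O : Set (Subgroup G × Subgroup G)} (hO : Disj A O) {p : Subgroup G × Subgroup G} (hp : p ∈ O)
include hO hp

omit h hP in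
theorem card_left_eq {q : Subgroup G × Subgroup G} (hq : q ∈ O) :
    Nat.card q.1 = Nat.card p.1 ∧ Nat.card q.2 = Nat.card p.2 := by
  obtain ⟨n, -, rfl⟩ := hO.trans p hp q hq
  exact ⟨(Nat.card_congr ((MulAut.conj n).subgroupMap p.1).toEquiv).symm,
    (Nat.card_congr ((MulAut.conj n).subgroupMap p.2).toEquiv).symm⟩

omit h in
theorem mul_ne_one {r v : G} (hr : r ∈ p.1) (hr1 : r ≠ 1) (hv : v ∈ p.2) : r * v ≠ 1 := fun e => hr1
  (mem_bot.1 (pair_inf hP (hO.pair p hp) ▸ mem_inf.2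
    ⟨hr, by rw [eq_inv_of_mul_eq_one_left e]; exact inv_mem hv⟩))

/-- A left side not inside the right side of `p` meets it trivially. -/
theorem inf_eq_bot {q : Subgroup G × Subgroup G} (hq : q ∈ O) (hqp : q ≠ p) (hle : ¬ q.1 ≤ p.2) :
    q.1 ⊓ p.2 = ⊥ := by
  obtain ⟨T, hT, htr, hfree⟩ := exists_torus h hP (hO.pair p hp)
  have hqA := (pair_le (hO.pair q hq)).1
  have hVA := (pair_le (hO.pair p hp)).2
  obtain ⟨x, hx, hxV⟩ := SetLike.not_le_iff_exists.1 hle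
  obtain ⟨r, hr, v, hv, rfl⟩ := exists_decomp h hP (hO.pair p hp) (hqA hx)
  have hr1 : r ≠ 1 := fun e => hxV (by rwa [e, one_mul])
  have hrq : r ∉ q.1 := fun hrq => hqp (hO.eq q hq p hp r hrq hr hr1)
  have hv1 : v ≠ 1 := fun e => hrq (by rwa [e, mul_one] at hx)
  by_contra hne
  obtain ⟨w, hw, hw1⟩ := exists_ne_one hne
  have hvw : v * w ≠ 1 := fun e => hrq (by
    have h1 := mul_mem hx hw.1
    rwa [mul_assoc, e, mul_one] at h1)
  obtain ⟨g, hg, hgv⟩ := htr v hv hv1 (v * w) (mul_mem hv hw.2) hvw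
  obtain ⟨hgN, -, hgR, hgV⟩ := hT g hg
  have hgx : g * (r * v) * g⁻¹ = r * (v * w) := by
    rw [show g * (r * v) * g⁻¹ = g * r * g⁻¹ * (g * v * g⁻¹) by group, hgR r hr, hgv]
  have hgq : cj g q = q := by
    refine hO.eq _ (hO.conj q hq g hgN) q hq (r * (v * w)) (hgx ▸ mem_cj_left hx) ?_
      (mul_ne_one hP hO hp hr hr1 (mul_mem hv hw.2))
    rw [← mul_assoc]
    exact mul_mem hx hw.1
  have hfix : ∀ d ∈ p.2, g * d * g⁻¹ = d → d = 1 := fun d hd e => by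
    by_contra hd1
    exact hw1 (mul_eq_left.1 (hgv.symm.trans (hfree g hg d hd hd1 e v hv)))
  have hgW : ∀ u ∈ q.1 ⊓ p.2, g * u * g⁻¹ * u⁻¹ ∈ q.1 ⊓ p.2 := fun u hu => mem_inf.2
    ⟨mul_mem (hgq ▸ mem_cj_left hu.1 : g * u * g⁻¹ ∈ q.1) (inv_mem hu.1),
      mul_mem (hgV u hu.2) (inv_mem hu.2)⟩
  let f : ↥(q.1 ⊓ p.2) → ↥(q.1 ⊓ p.2) := fun u => ⟨_, hgW u u.2⟩
  have hf : Function.Injective f := fun a b e => by
    have e' : g * (a : G) * g⁻¹ * (a : G)⁻¹ = g * b * g⁻¹ * (b : G)⁻¹ := congrArg Subtype.val e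
    have hgb : g * (b : G) * g⁻¹ = g * a * g⁻¹ * (a : G)⁻¹ * b := by rw [e']; group
    refine Subtype.ext (inv_mul_eq_one.1 (hfix ((a : G)⁻¹ * b) (mul_mem (inv_mem a.2.2) b.2.2) ?_))
    rw [show g * ((a : G)⁻¹ * b) * g⁻¹ = (g * a * g⁻¹)⁻¹ * (g * b * g⁻¹) by group, hgb]
    group
  obtain ⟨u, hu⟩ := (Finite.injective_iff_surjective.1 hf) ⟨w, hw⟩
  have hu' : g * (u : G) * g⁻¹ * (u : G)⁻¹ = w := congrArg Subtype.val hu
  have hgu : g * (u : G) * g⁻¹ = w * u := by rw [← hu']; group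
  have hcvw : v * w = w * v := h.commute_mem (hVA hv) (hVA hw.2)
  have e2 : (u : G) = v := by
    refine inv_mul_eq_one.1 (hfix ((u : G)⁻¹ * v) (mul_mem (inv_mem u.2.2) hv) ?_)
    rw [show g * ((u : G)⁻¹ * v) * g⁻¹ = (g * u * g⁻¹)⁻¹ * (g * v * g⁻¹) by group, hgu, hgv, hcvw]
    group
  exact hrq (by simpa using mul_mem hx (inv_mem (e2 ▸ u.2.1 : v ∈ q.1)))

/-- Such a left side projects onto that of `p`. -/
theorem exists_over {q : Subgroup G × Subgroup G} (hq : q ∈ O) (hqp : q ≠ p) (hle : ¬ q.1 ≤ p.2) {r : G}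
    (hr : r ∈ p.1) (hr1 : r ≠ 1) : ∃ v ∈ p.2, v ≠ 1 ∧ r * v ∈ q.1 := by
  classical
  choose π hπ χ hχ heq using fun x : q.1 =>
    exists_decomp h hP (hO.pair p hp) ((pair_le (hO.pair q hq)).1 x.2)
  have hinj : Function.Injective (fun x : q.1 => (⟨π x, hπ x⟩ : p.1)) := fun a b e => by
    have e' : π a = π b := congrArg Subtype.val e
    have hb := mem_bot.1 (inf_eq_bot h hP hO hp hq hqp hle ▸ mem_inf.2
      ⟨mul_mem (inv_mem a.2) b.2, by
        rw [← heq a, ← heq b, e', show (π b * χ a)⁻¹ * (π b * χ b) = (χ a)⁻¹ * χ b by group]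
        exact mul_mem (inv_mem (hχ a)) (hχ b)⟩ : (a : G)⁻¹ * b ∈ (⊥ : Subgroup G))
    exact Subtype.ext (inv_mul_eq_one.1 hb)
  obtain ⟨x, hx⟩ := ((Nat.bijective_iff_injective_and_card _).2
    ⟨hinj, (card_left_eq hO hp hq).1⟩).2 ⟨r, hr⟩
  have hx' : π x = r := congrArg Subtype.val hx
  refine ⟨χ x, hχ x, fun e => hqp (hO.eq q hq p hp r ?_ hr hr1), hx' ▸ (heq x).symm ▸ x.2⟩
  have h1 := heq x
  rw [hx', e, mul_one] at h1
  exact h1 ▸ x.2

/-- The conjugates of such a member cover. -/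
theorem exists_cover {q : Subgroup G × Subgroup G} (hq : q ∈ O) (hqp : q ≠ p) (hle : ¬ q.1 ≤ p.2) {r v : G}
    (hr : r ∈ p.1) (hr1 : r ≠ 1) (hv : v ∈ p.2) (hv1 : v ≠ 1) :
    ∃ g ∈ normalizer (A : Set G), cj g p = p ∧ r * v ∈ (cj g q).1 := by
  obtain ⟨T, hT, htr, -⟩ := exists_torus h hP (hO.pair p hp)
  obtain ⟨w, hw, hw1, hx⟩ := exists_over h hP hO hp hq hqp hle hr hr1
  obtain ⟨g, hg, e⟩ := htr w hw hw1 v hv hv1
  obtain ⟨hgN, hgp, hgR, -⟩ := hT g hg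
  refine ⟨g, hgN, hgp, ?_⟩
  have := mem_cj_left (g := g) hx
  rwa [show g * (r * w) * g⁻¹ = g * r * g⁻¹ * (g * w * g⁻¹) by group, hgR r hr, e] at this

/-- They form one orbit of the stabilizer of `p`. -/
theorem exists_move {q q' : Subgroup G × Subgroup G} (hq : q ∈ O) (hqp : q ≠ p) (hle : ¬ q.1 ≤ p.2)
    (hq' : q' ∈ O) (hqp' : q' ≠ p) (hle' : ¬ q'.1 ≤ p.2) :
    ∃ g ∈ normalizer (A : Set G), cj g p = p ∧ cj g q = q' := by
  obtain ⟨r, hr, hr1⟩ := exists_ne_one (pair_left_ne_bot hP (hO.pair p hp))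
  obtain ⟨v, hv, hv1, hx⟩ := exists_over h hP hO hp hq' hqp' hle' hr hr1
  obtain ⟨g, hgN, hgp, hg⟩ := exists_cover h hP hO hp hq hqp hle hr hr1 hv hv1
  exact ⟨g, hgN, hgp, hO.eq _ (hO.conj q hq g hgN) q' hq' _ hg hx (mul_ne_one hP hO hp hr hr1 hv)⟩

/-- Their number. -/
theorem card_three {q : Subgroup G × Subgroup G} (hq : q ∈ O) (hqp : q ≠ p) (hle : ¬ q.1 ≤ p.2) :
    Nat.card {w : O // p ≠ (w : Subgroup G × Subgroup G) ∧ ¬ (w : Subgroup G × Subgroup G).1 ≤ p.2} =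
      Nat.card p.2 - 1 := by
  obtain ⟨r, hr, hr1⟩ := exists_ne_one (pair_left_ne_bot hP (hO.pair p hp))
  choose g hgN hgp hg using fun v : {v : p.2 // v ≠ 1} =>
    exists_cover h hP hO hp hq hqp hle hr hr1 v.1.2 (fun e => v.2 (Subtype.ext e))
  let f : {v : p.2 // v ≠ 1} →
      {w : O // p ≠ (w : Subgroup G × Subgroup G) ∧ ¬ (w : Subgroup G × Subgroup G).1 ≤ p.2} := fun v =>
    ⟨⟨cj (g v) q, hO.conj q hq _ (hgN v)⟩, fun e => hqp (cj_injective (g v) ((hgp v).trans e)).symm,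
      fun e => hle ((rel_cj (g v) p q).1 (by rw [hgp v]; exact e))⟩
  have hf : Function.Bijective f := by
    refine ⟨fun a b e => ?_, ?_⟩
    · have e' : cj (g a) q = cj (g b) q := congrArg (fun w => (w.1 : Subgroup G × Subgroup G)) e
      have hbot := inf_eq_bot h hP hO hp (hO.conj q hq _ (hgN b))
        (fun e => hqp (cj_injective (g b) (e.trans (hgp b).symm)))
        (fun e => hle ((rel_cj (g b) p q).1 (by rw [hgp b]; exact e)))
      have h1 := mem_bot.1 (hbot ▸ mem_inf.2 ⟨mul_mem (inv_mem (e' ▸ hg a : r * a.1 ∈ (cj (g b) q).1)) (hg b), by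
        rw [show (r * (a.1 : G))⁻¹ * (r * (b.1 : G)) = (a.1 : G)⁻¹ * b.1 by group]
        exact mul_mem (inv_mem a.1.2) b.1.2⟩ : (r * (a.1 : G))⁻¹ * (r * (b.1 : G)) ∈ (⊥ : Subgroup G))
      exact Subtype.ext (Subtype.ext (mul_left_cancel (inv_mul_eq_one.1 h1)))
    · rintro ⟨⟨w, hw⟩, hwp, hwle⟩
      obtain ⟨v, hv, hv1, hx⟩ := exists_over h hP hO hp hw (Ne.symm hwp) hwle hr hr1
      refine ⟨⟨⟨v, hv⟩, fun e => hv1 (congrArg Subtype.val e)⟩, Subtype.ext (Subtype.ext ?_)⟩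
      exact hO.eq _ (hO.conj q hq _ (hgN _)) w hw _ (hg _) hx (mul_ne_one hP hO hp hr hr1 hv)
  rw [← Nat.card_eq_of_bijective f hf, card_ne_one_eq]

omit h hP in
/-- The left sides inside the right side of `p` are few. -/
theorem card_one_le :
    Nat.card {w : O // (w : Subgroup G × Subgroup G).1 ≤ p.2} * (Nat.card p.1 - 1) ≤ Nat.card p.2 - 1 := by
  classical
  set I := {w : O // (w : Subgroup G × Subgroup G).1 ≤ p.2}
  haveI := Fintype.ofFinite I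
  let f : (Σ w : I, {x : (w.1 : Subgroup G × Subgroup G).1 // x ≠ 1}) → {v : p.2 // v ≠ 1} := fun z =>
    ⟨⟨(z.2.1 : G), z.1.2 z.2.1.2⟩, fun e =>
      z.2.2 (Subtype.ext (show (z.2.1 : G) = 1 from congrArg Subtype.val e))⟩
  have hf : Function.Injective f := by
    rintro ⟨⟨⟨w, hw⟩, hwV⟩, ⟨⟨x, hx⟩, hx1⟩⟩ ⟨⟨⟨w', hw'⟩, hwV'⟩, ⟨⟨x', hx'⟩, hx1'⟩⟩ e
    have e' : x = x' := congrArg (fun v : {v : p.2 // v ≠ 1} => ((v.1 : p.2) : G)) e
    subst e'
    obtain rfl := hO.eq w hw w' hw' x hx hx' (fun e => hx1 (Subtype.ext e))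
    rfl
  have h1 := Nat.card_le_card_of_injective f hf
  rw [Nat.card_sigma, card_ne_one_eq] at h1
  have e : ∀ w : I, Nat.card {x : (w.1 : Subgroup G × Subgroup G).1 // x ≠ 1} = Nat.card p.1 - 1 := fun w => by
    rw [card_ne_one_eq, (card_left_eq hO hp w.1.2).1]
  simpa [e, Nat.card_eq_fintype_card] using h1

/-- When a member lies in the right side of `p` and another does not, the left sides cover `A`. -/
theorem exists_mem_of_both {q₁ q₃ : Subgroup G × Subgroup G} (h1 : q₁ ∈ O) (h1le : q₁.1 ≤ p.2)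
    (h3 : q₃ ∈ O) (h3p : q₃ ≠ p) (h3le : ¬ q₃.1 ≤ p.2) {x : G} (hx : x ∈ A) :
    ∃ w ∈ O, x ∈ w.1 := by
  obtain ⟨T, hT, htr, -⟩ := exists_torus h hP (hO.pair p hp)
  obtain ⟨r, hr, v, hv, rfl⟩ := exists_decomp h hP (hO.pair p hp) hx
  by_cases hv1 : v = 1
  · exact ⟨p, hp, by rwa [hv1, mul_one]⟩
  by_cases hr1 : r = 1
  · obtain ⟨u, hu, hu1⟩ := exists_ne_one (pair_left_ne_bot hP (hO.pair q₁ h1))
    obtain ⟨g, hg, e⟩ := htr u (h1le hu) hu1 v hv hv1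
    exact ⟨cj g q₁, hO.conj q₁ h1 g (hT g hg).1, by rw [hr1, one_mul, ← e]; exact mem_cj_left hu⟩
  · obtain ⟨g, hgN, -, hg⟩ := exists_cover h hP hO hp h3 h3p h3le hr hr1 hv hv1
    exact ⟨cj g q₃, hO.conj q₃ h3 g hgN, hg⟩

/-- Some member lies in the right side of `p`. -/
theorem exists_rel_one : ∃ q ∈ O, q.1 ≤ p.2 := by
  by_contra hno
  push Not at hno
  have hVA := (pair_le (hO.pair p hp)).2
  obtain ⟨a, ha, b, hb, hpa, -, -⟩ := hO.three p hp
  refine (h.irreducible hVA fun n hn v hv => ?_).elim (pair_ne (hO.pair p hp)).2 fun e => ?_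
  · by_contra hnv
    have hxA : n * v * n⁻¹ ∈ A := (mem_normalizer_iff.1 hn v).1 (hVA hv)
    obtain ⟨r, hr, w, hw, e⟩ := exists_decomp h hP (hO.pair p hp) hxA
    have hr1 : r ≠ 1 := fun e1 => hnv (by rw [← e, e1, one_mul]; exact hw)
    obtain ⟨q, hq, hxq⟩ : ∃ q ∈ O, n * v * n⁻¹ ∈ q.1 := by
      by_cases hw1 : w = 1
      · exact ⟨p, hp, by rw [← e, hw1, mul_one]; exact hr⟩
      · obtain ⟨g, hgN, -, hg⟩ := exists_cover h hP hO hp ha (Ne.symm hpa) (hno a ha) hr hr1 hw hw1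
        exact ⟨_, hO.conj a ha g hgN, e ▸ hg⟩
    have hvq : v ∈ (cj n⁻¹ q).1 := by
      have := mem_cj_left (g := n⁻¹) hxq
      rwa [show n⁻¹ * (n * v * n⁻¹) * n⁻¹⁻¹ = v by group] at this
    have hv1 : v ≠ 1 := fun e1 => hnv (by rw [e1, mul_one, mul_inv_cancel]; exact one_mem _)
    have hq' := hO.conj q hq n⁻¹ (inv_mem hn)
    by_cases hp' : cj n⁻¹ q = p
    · exact hv1 (mem_bot.1 (pair_inf hP (hO.pair p hp) ▸ mem_inf.2 ⟨hp' ▸ hvq, hv⟩))
    · exact hv1 (mem_bot.1 (inf_eq_bot h hP hO hp hq' hp' (hno _ hq') ▸ mem_inf.2 ⟨hvq, hv⟩))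
  · refine pair_left_ne_bot hP (hO.pair p hp) ?_
    rw [← pair_inf hP (hO.pair p hp), e, inf_of_le_left (pair_le (hO.pair p hp)).1]

/-- Some member does not lie in the right side of `p`. -/
theorem exists_rel_three : ∃ q ∈ O, q ≠ p ∧ ¬ q.1 ≤ p.2 := by
  by_contra hno
  push Not at hno
  have hall : ∀ u ∈ O, ∀ q ∈ O, q ≠ u → q.1 ≤ u.2 := by
    intro u hu q hq hne
    obtain ⟨m, hm, rfl⟩ := hO.trans p hp u hu
    have h1 := hno (cj m⁻¹ q) (hO.conj q hq _ (inv_mem hm)) fun e => hne (by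
      rw [← e, ← cj_mul, mul_inv_cancel, cj_one])
    have h2 := (rel_cj m p (cj m⁻¹ q)).2 h1
    rwa [← cj_mul, mul_inv_cancel, cj_one] at h2
  obtain ⟨T, hT, htr, -⟩ := exists_torus h hP (hO.pair p hp)
  have hfull : ∀ a ∈ O, a ≠ p → a.1 = p.2 := by
    intro a ha hap
    have hle := hno a ha hap
    refine le_antisymm hle fun v hv => ?_
    by_contra hva
    obtain ⟨u, hu, hu1⟩ := exists_ne_one (pair_left_ne_bot hP (hO.pair a ha))
    have hout : ∀ w ∈ p.2, w ∉ a.1 → w ∈ a.2 := fun w hw hwa => by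
      have hw1 : w ≠ 1 := fun e => hwa (e ▸ one_mem _)
      obtain ⟨g, hg, e⟩ := htr u (hle hu) hu1 w hw hw1
      have hq := hO.conj a ha g (hT g hg).1
      exact hall a ha _ hq (fun e' => hwa (e' ▸ e ▸ mem_cj_left hu)) (e ▸ mem_cj_left hu)
    have h1 := hout v hv hva
    have h2 := hout (u * v) (mul_mem (hle hu) hv) fun e => hva (by simpa using mul_mem (inv_mem hu) e)
    exact hu1 (mem_bot.1 (pair_inf hP (hO.pair a ha) ▸ mem_inf.2 ⟨hu, by
      simpa using mul_mem h2 (inv_mem h1)⟩))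
  obtain ⟨a, ha, b, hb, hpa, hpb, hab⟩ := hO.three p hp
  obtain ⟨u, hu, hu1⟩ := exists_ne_one (pair_ne (hO.pair p hp)).2
  exact hab (hO.eq a ha b hb u ((hfull a ha (Ne.symm hpa)).symm ▸ hu)
    ((hfull b hb (Ne.symm hpb)).symm ▸ hu) hu1)

end CfsgLib.Gold.Split
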