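import Cfsg.Agent.Lib.Goldschmidt.Setup
import Cfsg.Agent.Lib.Goldschmidt.Comp.Defs
import Cfsg.Agent.Lib.Walter.Rank.Blocks
import Cfsg.Agent.Lib.Coprime.Action

/-!
# The case of an elementary centralizer: maximal pairs and their orbits under `N(A)`

Two maximal pairs whose left sides meet are equal or cross; an orbit of maximal pairs has at least three
members as `N(A)` is irreducible and has no subgroup of index two.
-/

set_option autoImplicit false
set_option linter.unusedSectionVars false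

namespace CfsgLib.Gold.Split

open Subgroup
open CfsgLib.Walter.Rank.Blocks (cj cj_mul cj_one cj_inv_cj orbit mem_orbit_self orbit_cj exists_ne_one)

universe u

variable {G : Type u} [Group G] [Finite G] {S : Sylow 2 G} {A : Subgroup G}

/-- A maximal pair of `A`. -/
def IsMaxPair (A : Subgroup G) (p : Subgroup G × Subgroup G) : Prop :=
  IsPair A p.1 p.2 ∧ ∀ q : Subgroup G × Subgroup G, IsPair A q.1 q.2 → p.2 ≤ q.2 → q.1 ≤ p.1 → q = p

theorem pair_le {p : Subgroup G × Subgroup G} (hp : IsPair A p.1 p.2) : p.1 ≤ A ∧ p.2 ≤ A := by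
  obtain ⟨y, hy⟩ := hp
  exact ⟨hy.1.le_left, hy.1.le_right⟩

theorem pair_ne {p : Subgroup G × Subgroup G} (hp : IsPair A p.1 p.2) : p.1 ≠ A ∧ p.2 ≠ ⊥ := by
  obtain ⟨y, hy⟩ := hp
  exact ⟨hy.2.2, hy.2.1⟩

section

variable (hP : PairFacts A)
include hP

theorem pair_inf {p : Subgroup G × Subgroup G} (hp : IsPair A p.1 p.2) : p.1 ⊓ p.2 = ⊥ := by
  obtain ⟨y, hy⟩ := hp
  exact hP.inf_eq y _ _ hy

theorem pair_card {p : Subgroup G × Subgroup G} (hp : IsPair A p.1 p.2) :
    Nat.card p.1 * Nat.card p.2 = Nat.card A := by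
  obtain ⟨y, hy⟩ := hp
  exact hP.card_eq y _ _ hy

theorem pair_four {p : Subgroup G × Subgroup G} (hp : IsPair A p.1 p.2) : 4 ≤ Nat.card p.2 := by
  obtain ⟨y, hy⟩ := hp
  exact hP.four_le y _ _ hy

theorem pair_left_ne_bot {p : Subgroup G × Subgroup G} (hp : IsPair A p.1 p.2) : p.1 ≠ ⊥ := by
  obtain ⟨y, hy⟩ := hp
  intro e
  have h1 := hP.mem_left y _ _ hy
  rw [e, mem_bot] at h1
  exact absurd hy.1.2.1 (by rw [h1, orderOf_one]; norm_num)

theorem exists_max {p : Subgroup G × Subgroup G} (hp : IsPair A p.1 p.2) :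
    ∃ q, IsMaxPair A q ∧ p.2 ≤ q.2 ∧ q.1 ≤ p.1 := by
  obtain ⟨q, ⟨hq, hV, hR⟩, hmax⟩ := Set.exists_max_image
    {q : Subgroup G × Subgroup G | IsPair A q.1 q.2 ∧ p.2 ≤ q.2 ∧ q.1 ≤ p.1}
    (fun q => Nat.card q.2) (Set.toFinite _) ⟨p, hp, le_rfl, le_rfl⟩
  refine ⟨q, ⟨hq, fun r hr hV' hR' => ?_⟩, hV, hR⟩
  have h1 := hmax r ⟨hr, hV.trans hV', hR'.trans hR⟩
  have hV2 : q.2 = r.2 := Subgroup.eq_of_le_of_card_ge hV' h1
  have hR2 : r.1 = q.1 := Subgroup.eq_of_le_of_card_ge hR' (le_of_eq (by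
    have e1 := pair_card hP hr
    have e2 := pair_card hP hq
    rw [← hV2] at e1
    exact Nat.eq_of_mul_eq_mul_right Nat.card_pos (e2.trans e1.symm)))
  exact Prod.ext hR2 hV2.symm

theorem pair_conj {p : Subgroup G × Subgroup G} (hp : IsPair A p.1 p.2) {n : G}
    (hn : n ∈ normalizer (A : Set G)) : IsPair A (cj n p).1 (cj n p).2 := by
  obtain ⟨y, hy⟩ := hp
  exact ⟨_, hP.map_conj y _ _ hy n hn⟩

theorem max_conj {p : Subgroup G × Subgroup G} (hp : IsMaxPair A p) {n : G}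
    (hn : n ∈ normalizer (A : Set G)) : IsMaxPair A (cj n p) := by
  refine ⟨pair_conj hP hp.1 hn, fun q hq hV hR => ?_⟩
  have h1 := hp.2 (cj n⁻¹ q) (pair_conj hP hq (inv_mem hn))
    (by
      have := Subgroup.map_mono (f := (MulAut.conj n⁻¹).toMonoidHom) hV
      rwa [show (cj n p).2.map (MulAut.conj n⁻¹).toMonoidHom = (cj n⁻¹ (cj n p)).2 from rfl,
        cj_inv_cj] at this)
    (by
      have := Subgroup.map_mono (f := (MulAut.conj n⁻¹).toMonoidHom) hR
      rwa [show (cj n p).1.map (MulAut.conj n⁻¹).toMonoidHom = (cj n⁻¹ (cj n p)).1 from rfl,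
        cj_inv_cj] at this)
  rw [← h1, ← cj_mul, mul_inv_cancel, cj_one]

theorem orbit_max {p q : Subgroup G × Subgroup G} (hp : IsMaxPair A p) (hq : q ∈ orbit A p) :
    IsMaxPair A q := by
  obtain ⟨m, hm, rfl⟩ := hq
  exact max_conj hP hp hm

end

section

variable (h : Setting S A) (hP : PairFacts A)
include h hP

theorem pairAt_max {p : Subgroup G × Subgroup G} (hp : IsMaxPair A p) {y : G} (hy : y ∈ p.1) (h1 : y ≠ 1) :
    IsPairAt A y p.1 p.2 := by
  obtain ⟨x, hx⟩ := hp.1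
  obtain ⟨R', V', hP', hV, hR⟩ := hP.transfer x _ _ hx y hy (h.orderOf_eq (hx.1.le_left hy) h1)
  have he := hp.2 (R', V') ⟨y, hP'⟩ hV hR
  rw [← he]
  exact hP'

/-- Two maximal pairs whose left sides meet are equal or cross. -/
theorem eq_or_cross {p q : Subgroup G × Subgroup G} (hp : IsMaxPair A p) (hq : IsMaxPair A q)
    (hne : p.1 ⊓ q.1 ≠ ⊥) : q = p ∨ (q.2 ≤ p.1 ∧ p.2 ≤ q.1) := by
  obtain ⟨y, hy, h1⟩ := exists_ne_one hne
  have hp' := pairAt_max h hP hp hy.1 h1
  have hq' := pairAt_max h hP hq hy.2 h1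
  rcases hP.eq_or_le y _ _ _ _ hp' hq' with e | e
  · exact Or.inl (Prod.ext e.1 e.2)
  · rcases hP.eq_or_le y _ _ _ _ hq' hp' with e' | e'
    · exact Or.inl (Prod.ext e'.1.symm e'.2.symm)
    · exact Or.inr ⟨e, e'⟩

omit hP in
/-- `N(A)` has no quotient of exponent two. -/
theorem hom_eq_one {C : Type} [CommGroup C] (hC : ∀ c : C, c ^ 2 = 1)
    (χ : (normalizer (A : Set G) : Subgroup G) →* C) (n : (normalizer (A : Set G) : Subgroup G)) :
    χ n = 1 := by
  haveI := Fact.mk Nat.prime_two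
  by_contra hne
  refine (S.subtype h.sylow_le_normalizer).not_dvd_index (dvd_trans ?_ (index_dvd_of_le (K := χ.ker) ?_))
  · rw [index_ker]
    have h2 : orderOf (⟨χ n, ⟨n, rfl⟩⟩ : χ.range) = 2 :=
      orderOf_eq_prime (Subtype.ext (hC _)) fun e => hne (congrArg Subtype.val e)
    exact h2 ▸ orderOf_dvd_natCard _
  · intro x hx
    by_contra hx1
    exact h.false_of_hom hC χ (mem_subgroupOf.1 hx) (fun e => hx1 (MonoidHom.mem_ker.2 e))

/-- An orbit of maximal pairs has three members. -/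
theorem orbit_three {p : Subgroup G × Subgroup G} (hp : IsMaxPair A p) :
    ∃ a ∈ orbit A p, ∃ b ∈ orbit A p, p ≠ a ∧ p ≠ b ∧ a ≠ b := by
  classical
  set N := normalizer (A : Set G) with hN
  obtain ⟨n, hn, hne⟩ : ∃ n ∈ N, cj n p ≠ p := by
    by_contra hc
    push Not at hc
    rcases h.irreducible (pair_le hp.1).1 (fun n hn w hw => by
      have : MulAut.conj n w ∈ (cj n p).1 := mem_map_of_mem _ hw
      rwa [hc n hn, MulAut.conj_apply] at this) with e | e
    · exact pair_left_ne_bot hP hp.1 e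
    · exact (pair_ne hp.1).1 e
  by_contra hno
  push Not at hno
  set q := cj n p with hq
  have hall : ∀ b ∈ orbit A p, b = p ∨ b = q := fun b hb => or_iff_not_imp_left.2 fun hbp =>
    (hno q ⟨n, hn, rfl⟩ b hb (Ne.symm hne) (Ne.symm hbp)).symm
  have hperm : ∀ m ∈ N, (cj m p = p ∧ cj m q = q) ∨ (cj m p = q ∧ cj m q = p) := by
    intro m hm
    have hinj : cj m p ≠ cj m q := fun e => by
      have := congrArg (cj m⁻¹) e
      rw [cj_inv_cj, cj_inv_cj] at this
      exact hne this.symm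
    rcases hall _ (orbit_cj (mem_orbit_self A p) hm) with e | e <;>
      rcases hall _ (orbit_cj ⟨n, hn, rfl⟩ hm : cj m q ∈ orbit A p) with e' | e'
    · exact absurd (e.trans e'.symm) hinj
    · exact Or.inl ⟨e, e'⟩
    · exact Or.inr ⟨e, e'⟩
    · exact absurd (e.trans e'.symm) hinj
  let ε : Multiplicative (ZMod 2) := Multiplicative.ofAdd 1
  have hε2 : ε * ε = 1 := by
    show Multiplicative.ofAdd ((1 : ZMod 2) + 1) = Multiplicative.ofAdd 0
    exact congrArg _ (CharTwo.add_self_eq_zero 1)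
  let f : N → Multiplicative (ZMod 2) := fun m => if cj (m : G) p = p then 1 else ε
  let χ : N →* Multiplicative (ZMod 2) := MonoidHom.mk' f fun a b => by
    show (if cj ((a : G) * b) p = p then 1 else ε) =
      (if cj (a : G) p = p then 1 else ε) * (if cj (b : G) p = p then 1 else ε)
    rw [cj_mul]
    rcases hperm b b.2 with ⟨e, -⟩ | ⟨e, -⟩ <;> rcases hperm a a.2 with ⟨d, d'⟩ | ⟨d, d'⟩
    · simp [e, d]
    · simp [e, d, hne]
    · simp [e, d, d', hne]
    · rw [e, d', d, if_pos rfl, if_neg hne, hε2]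
  have hc2 : ∀ c : Multiplicative (ZMod 2), c ^ 2 = 1 := fun c => by
    rw [pow_two]
    exact Multiplicative.toAdd.injective (CharTwo.add_self_eq_zero c.toAdd)
  have h1 := hom_eq_one h hc2 χ ⟨n, hn⟩
  rw [show χ ⟨n, hn⟩ = ε from if_neg hne] at h1
  exact one_ne_zero (α := ZMod 2) (Multiplicative.ofAdd.injective h1)

theorem conj_commute {a b : G} (ha : a ∈ A) (hb : b ∈ A) : Commute a b := h.commute_mem ha hb

theorem exists_decomp {p : Subgroup G × Subgroup G} (hp : IsPair A p.1 p.2) {x : G} (hx : x ∈ A) :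
    ∃ r ∈ p.1, ∃ v ∈ p.2, r * v = x := by
  obtain ⟨y, hy⟩ := hp
  rw [← hP.sup_eq y _ _ hy] at hx
  refine CfsgLib.Coprime.mem_sup_exists (fun v hv => mem_normalizer_fintype fun r hr => ?_) hx
  rwa [(h.commute_mem (hy.1.le_right hv) (hy.1.le_left hr)), mul_inv_cancel_right]

theorem sq_card_le {p : Subgroup G × Subgroup G} (hp : IsMaxPair A p)
    (hcross : ∀ a ∈ orbit A p, ∀ b ∈ orbit A p, b ≠ a → b.2 ≤ a.1) :
    Nat.card p.2 * Nat.card p.2 ≤ Nat.card p.1 := by
  obtain ⟨a, ha, b, hb, hpa, hpb, hab⟩ := orbit_three h hP hp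
  have hsize : ∀ q ∈ orbit A p, Nat.card q.2 = Nat.card p.2 := by
    rintro _ ⟨n, -, rfl⟩
    exact (Nat.card_congr ((MulAut.conj n).subgroupMap p.2).toEquiv).symm
  have hinf : a.2 ⊓ b.2 = ⊥ :=
    le_bot_iff.1 ((inf_le_inf_right _ (hcross b hb a ha hab)).trans (pair_inf hP (orbit_max hP hp hb).1).le)
  have hle : a.2 ⊔ b.2 ≤ p.1 := sup_le (hcross p (mem_orbit_self _ _) a ha (Ne.symm hpa))
    (hcross p (mem_orbit_self _ _) b hb (Ne.symm hpb))
  have h1 : Nat.card (a.2 × b.2) ≤ Nat.card p.1 := by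
    refine Nat.card_le_card_of_injective
      (fun x => (⟨x.1.1 * x.2.1, hle (mul_mem (mem_sup_left x.1.2) (mem_sup_right x.2.2))⟩ : p.1)) ?_
    intro x x' e
    exact Subgroup.mul_injective_of_disjoint (disjoint_iff.2 hinf) (congrArg Subtype.val e)
  rwa [Nat.card_prod, hsize a ha, hsize b hb] at h1

/-- Two pairs with disjoint left sides. -/
theorem left_le_of_disjoint {p q : Subgroup G × Subgroup G} (hp : IsPair A p.1 p.2) (hq : IsPair A q.1 q.2)
    (hbot : p.1 ⊓ q.1 = ⊥) : Nat.card q.1 ≤ Nat.card p.2 := by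
  have h1 : Nat.card (p.1 × q.1) ≤ Nat.card A := by
    refine Nat.card_le_card_of_injective
      (fun x => (⟨x.1.1 * x.2.1, mul_mem ((pair_le hp).1 x.1.2) ((pair_le hq).1 x.2.2)⟩ : A)) ?_
    intro x x' e
    exact Subgroup.mul_injective_of_disjoint (disjoint_iff.2 hbot) (congrArg Subtype.val e)
  rw [Nat.card_prod, ← pair_card hP hp] at h1
  exact Nat.le_of_mul_le_mul_left h1 Nat.card_pos

end

end CfsgLib.Gold.Split
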